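/-
Finite filtered objects are closed under isomorphisms and finite products.
-/
import Groth.Prelude.Def_FilD
import Mathlib.CategoryTheory.Abelian.Refinements
import Mathlib.CategoryTheory.Preadditive.Biproducts
import Mathlib.CategoryTheory.ObjectProperty.FiniteProducts

set_option autoImplicit false

open CategoryTheory CategoryTheory.Limits Opposite

namespace Groth.Agent.Lib.Fil.Biprod

universe v u

variable {A : Type u} [Category.{v} A] [Abelian A]

instance isClosedUnderIsomorphisms : (_root_.FilD.IsFinFil A).IsClosedUnderIsomorphisms where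
  of_iso {F G} e hF := by
    obtain ⟨hm, ⟨b, hb⟩, ⟨a, ha⟩⟩ := hF
    have key : ∀ {p q : ℤᵒᵖ} (f : p ⟶ q), G.map f = e.inv.app p ≫ F.map f ≫ e.hom.app q :=
      fun f => by simp
    refine ⟨fun p q f => ?_, ⟨b, fun p hp => (hb p hp).of_iso (e.app _).symm⟩, ⟨a, fun p q f hp => ?_⟩⟩
    · have := hm f
      rw [key]; infer_instance
    · have := ha f hp
      rw [key]; infer_instance

lemma isFinFil_biprod (F G : ℤᵒᵖ ⥤ A) (hF : _root_.FilD.IsFinFil A F)
    (hG : _root_.FilD.IsFinFil A G) : _root_.FilD.IsFinFil A (F ⊞ G) := by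
  obtain ⟨hm, ⟨b, hb⟩, ⟨a, ha⟩⟩ := hF
  obtain ⟨hm', ⟨b', hb'⟩, ⟨a', ha'⟩⟩ := hG
  have total : ∀ p : ℤᵒᵖ, (biprod.fst : F ⊞ G ⟶ F).app p ≫ (biprod.inl : F ⟶ F ⊞ G).app p +
      (biprod.snd : F ⊞ G ⟶ G).app p ≫ (biprod.inr : G ⟶ F ⊞ G).app p = 𝟙 _ := fun p => by
    rw [← NatTrans.comp_app, ← NatTrans.comp_app, ← NatTrans.app_add, biprod.total]; rfl
  have hmono : ∀ ⦃p q : ℤᵒᵖ⦄ (f : p ⟶ q), Mono ((F ⊞ G).map f) := fun p q f => by
    refine Preadditive.mono_of_cancel_zero _ fun {T} x hx => ?_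
    have := hm f
    have := hm' f
    have h1 : x ≫ (biprod.fst : F ⊞ G ⟶ F).app p = 0 := by
      rw [← cancel_mono (F.map f), Category.assoc, ← (biprod.fst : F ⊞ G ⟶ F).naturality, reassoc_of% hx]
      simp
    have h2 : x ≫ (biprod.snd : F ⊞ G ⟶ G).app p = 0 := by
      rw [← cancel_mono (G.map f), Category.assoc, ← (biprod.snd : F ⊞ G ⟶ G).naturality, reassoc_of% hx]
      simp
    rw [← Category.comp_id x, ← total p, Preadditive.comp_add, reassoc_of% h1, reassoc_of% h2]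
    simp
  refine ⟨hmono, ⟨max b b', fun p hp => ?_⟩, ⟨min a a', fun p q f hp => ?_⟩⟩
  · rw [IsZero.iff_id_eq_zero, ← total, (hb p (by omega)).eq_of_tgt ((biprod.fst : F ⊞ G ⟶ F).app _) 0,
      (hb' p (by omega)).eq_of_tgt ((biprod.snd : F ⊞ G ⟶ G).app _) 0]
    simp
  · have := hmono f
    have := ha f (by omega)
    have := ha' f (by omega)
    have : Epi ((F ⊞ G).map f) := by
      refine (IsSplitEpi.mk' ⟨(biprod.fst : F ⊞ G ⟶ F).app q ≫ inv (F.map f) ≫ (biprod.inl : F ⟶ F ⊞ G).app p +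
        (biprod.snd : F ⊞ G ⟶ G).app q ≫ inv (G.map f) ≫ (biprod.inr : G ⟶ F ⊞ G).app p, ?_⟩).epi
      rw [← total q]
      simp only [Preadditive.add_comp, Category.assoc, ← NatTrans.naturality, IsIso.inv_hom_id_assoc]
    exact isIso_of_mono_of_epi _

instance isClosedUnderBinaryProducts : (_root_.FilD.IsFinFil A).IsClosedUnderBinaryProducts where
  limitsOfShape_le := by
    rintro X ⟨p⟩
    refine (_root_.FilD.IsFinFil A).prop_of_iso ?_
      (isFinFil_biprod _ _ (p.prop_diag_obj ⟨.left⟩) (p.prop_diag_obj ⟨.right⟩))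
    exact (IsLimit.conePointsIsoOfNatIso (BinaryBiproduct.isLimit _ _) p.isLimit (diagramIsoPair p.diag).symm)

instance isClosedUnderFiniteProducts : (_root_.FilD.IsFinFil A).IsClosedUnderFiniteProducts :=
  ObjectProperty.IsClosedUnderFiniteProducts.mk'

instance hasFiniteBiproducts : HasFiniteBiproducts (_root_.FilD.FilF A) :=
  HasFiniteBiproducts.of_hasFiniteProducts

instance hasBinaryBiproducts : HasBinaryBiproducts (_root_.FilD.FilF A) :=
  hasBinaryBiproducts_of_finite_biproducts _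

end Groth.Agent.Lib.Fil.Biprod
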