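/-
Elementwise lemmas for filtered objects viewed as functors `ℤᵒᵖ ⥤ A`.
-/
import Groth.Prelude.Def_FilD
import Mathlib.CategoryTheory.Abelian.Refinements
import Mathlib.Algebra.Homology.ShortComplex.Abelian
import Mathlib.CategoryTheory.Limits.Preserves.Shapes.Kernels
import Mathlib.CategoryTheory.Subobject.Lattice

set_option autoImplicit false
set_option linter.unusedSectionVars false

open CategoryTheory CategoryTheory.Limits Opposite

namespace Groth.Agent.Lib.Fil.Raw

universe v u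

variable {A : Type u} [Category.{v} A] [Abelian A]
variable {F G H : ℤᵒᵖ ⥤ A}

/-- The transition map `F (p+1) ⟶ F p`. -/
abbrev st (F : ℤᵒᵖ ⥤ A) (p : ℤ) : F.obj (op (p + 1)) ⟶ F.obj (op p) := F.map (_root_.FilD.stepHom p)

/-- The projection `F p ⟶ gr^p F`. -/
noncomputable def π (F : ℤᵒᵖ ⥤ A) (p : ℤ) : F.obj (op p) ⟶ (_root_.FilD.gr A p).obj F :=
  cokernel.π (st F p)

instance epi_π (F : ℤᵒᵖ ⥤ A) (p : ℤ) : Epi (π F p) :=
  inferInstanceAs (Epi (cokernel.π (st F p)))

@[reassoc (attr := simp)]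
lemma st_π (F : ℤᵒᵖ ⥤ A) (p : ℤ) : st F p ≫ π F p = 0 := cokernel.condition _

@[reassoc (attr := simp)]
lemma π_map (φ : F ⟶ G) (p : ℤ) : π F p ≫ (_root_.FilD.gr A p).map φ = φ.app (op p) ≫ π G p :=
  cokernel.π_desc _ _ _

@[reassoc]
lemma st_naturality (φ : F ⟶ G) (p : ℤ) :
    st F p ≫ φ.app (op p) = φ.app (op (p + 1)) ≫ st G p := φ.naturality _

lemma exists_of_π_eq_zero (p : ℤ) {T : A} (x : T ⟶ F.obj (op p)) (h : x ≫ π F p = 0) :
    ∃ (T' : A) (q : T' ⟶ T) (_ : Epi q) (y : T' ⟶ F.obj (op (p + 1))), q ≫ x = y ≫ st F p :=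
  (ShortComplex.exact_of_g_is_cokernel (ShortComplex.mk (st F p) (π F p) (st_π F p))
    (cokernelIsCokernel _)).exact_up_to_refinements x h

lemma exists_lift_π (p : ℤ) {T : A} (x : T ⟶ (_root_.FilD.gr A p).obj F) :
    ∃ (T' : A) (q : T' ⟶ T) (_ : Epi q) (y : T' ⟶ F.obj (op p)), q ≫ x = y ≫ π F p :=
  surjective_up_to_refinements_of_epi (π F p) x

lemma map_homOfLE_comp (F : ℤᵒᵖ ⥤ A) {p q r : ℤ} (h : p ≤ q) (h' : q ≤ r) :
    F.map (homOfLE h').op ≫ F.map (homOfLE h).op = F.map (homOfLE (h.trans h')).op := by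
  rw [← F.map_comp, ← op_comp, homOfLE_comp]

lemma map_homOfLE_self (F : ℤᵒᵖ ⥤ A) {p : ℤ} (h : p ≤ p) : F.map (homOfLE h).op = 𝟙 _ := by
  rw [show (homOfLE h : p ⟶ p) = 𝟙 p from Subsingleton.elim _ _, op_id, F.map_id]

/-- Strictness, elementwise. -/
def Strict (φ : F ⟶ G) : Prop :=
  ∀ (p q : ℤ) (h : p ≤ q) ⦃T : A⦄ (x : T ⟶ F.obj (op p)) (y : T ⟶ G.obj (op q)),
    x ≫ φ.app (op p) = y ≫ G.map (homOfLE h).op →
      ∃ (T' : A) (e : T' ⟶ T) (_ : Epi e) (x' : T' ⟶ F.obj (op q)), e ≫ y = x' ≫ φ.app (op q)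

/-- Strictness for one step. -/
def StrictStep (φ : F ⟶ G) : Prop :=
  ∀ (p : ℤ) ⦃T : A⦄ (x : T ⟶ F.obj (op p)) (y : T ⟶ G.obj (op (p + 1))),
    x ≫ φ.app (op p) = y ≫ st G p →
      ∃ (T' : A) (e : T' ⟶ T) (_ : Epi e) (x' : T' ⟶ F.obj (op (p + 1))),
        e ≫ y = x' ≫ φ.app (op (p + 1))

lemma strict_of_step (φ : F ⟶ G) (h : StrictStep φ) : Strict φ := by
  intro p q hpq
  induction q, hpq using Int.leInduction with
  | base =>
    intro T x y hxy
    rw [map_homOfLE_self, Category.comp_id] at hxy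
    exact ⟨T, 𝟙 T, inferInstance, x, by rw [Category.id_comp, hxy]⟩
  | succ q hq ih =>
    intro T x y hxy
    obtain ⟨T₁, e₁, he₁, x₁, hx₁⟩ := ih x (y ≫ st G q) (by
      rw [hxy, Category.assoc]
      congr 1
      exact (map_homOfLE_comp G hq (Int.le_add_one le_rfl)).symm)
    obtain ⟨T₂, e₂, he₂, x₂, hx₂⟩ := h q x₁ (e₁ ≫ y) (by rw [← hx₁, Category.assoc])
    exact ⟨T₂, e₂ ≫ e₁, inferInstance, x₂, by rw [Category.assoc, hx₂]⟩

lemma Strict.step {φ : F ⟶ G} (h : Strict φ) : StrictStep φ :=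
  fun p _ x y hxy => h p (p + 1) (Int.le_add_one le_rfl) x y hxy

lemma factors_iff_exists {X Y : A} (f : X ⟶ Y) {T : A} (z : T ⟶ Y) :
    (imageSubobject f).Factors z ↔
      ∃ (T' : A) (e : T' ⟶ T) (_ : Epi e) (x : T' ⟶ X), e ≫ z = x ≫ f := by
  constructor
  · intro h
    obtain ⟨T', e, he, x, hx⟩ :=
      surjective_up_to_refinements_of_epi (factorThruImageSubobject f)
        ((imageSubobject f).factorThru z h)
    refine ⟨T', e, he, x, ?_⟩
    have := congrArg (· ≫ (imageSubobject f).arrow) hx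
    simpa using this
  · rintro ⟨T', e, he, x, hx⟩
    have hma : Mono (imageSubobject f).arrow := Subobject.arrow_mono _
    have h0 : z ≫ cokernel.π (imageSubobject f).arrow = 0 := by
      rw [← cancel_epi e, comp_zero, reassoc_of% hx]
      have : f ≫ cokernel.π (imageSubobject f).arrow = 0 := by
        calc f ≫ cokernel.π (imageSubobject f).arrow
            = (factorThruImageSubobject f ≫ (imageSubobject f).arrow) ≫
                cokernel.π (imageSubobject f).arrow := by rw [imageSubobject_arrow_comp]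
          _ = 0 := by rw [Category.assoc, cokernel.condition, comp_zero]
      rw [this, comp_zero]
    exact (Subobject.factors_iff _ _).2
      ⟨Abelian.monoLift (imageSubobject f).arrow z h0,
        Abelian.monoLift_comp (imageSubobject f).arrow z h0⟩

/-- An epimorphism up to refinements. -/
lemma isStrict_iff {X Y : _root_.FilD.FilF A} (φ : X ⟶ Y) :
    _root_.FilD.IsStrict φ ↔ Strict φ.hom := by
  have hm : ∀ {p q : ℤ} (h : p ≤ q), Mono (Y.obj.map (homOfLE h).op) := fun h => Y.property.1 _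
  constructor
  · intro hs p q h T x y hxy
    have := hm h
    have h1 : (imageSubobject (φ.hom.app (op p)) ⊓
        Subobject.mk (Y.obj.map (homOfLE h).op)).Factors (y ≫ Y.obj.map (homOfLE h).op) := by
      rw [Subobject.inf_factors]
      exact ⟨(factors_iff_exists _ _).2 ⟨T, 𝟙 T, inferInstance, x, by rw [Category.id_comp, hxy]⟩,
        (Subobject.mk_factors_iff _ _).2 ⟨y, rfl⟩⟩
    rw [← hs p q h, factors_iff_exists] at h1
    obtain ⟨T', e, he, x', hx'⟩ := h1
    exact ⟨T', e, he, x', (cancel_mono (Y.obj.map (homOfLE h).op)).1 (by simpa using hx')⟩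
  · intro hs p q h
    have := hm h
    apply le_antisymm
    · apply le_inf
      · refine Subobject.le_of_factors ?_
        obtain ⟨T', e, he, x, hx⟩ := surjective_up_to_refinements_of_epi
          (factorThruImageSubobject (φ.hom.app (op q) ≫ Y.obj.map (homOfLE h).op))
          (𝟙 (Subobject.underlying.obj (imageSubobject (φ.hom.app (op q) ≫ Y.obj.map (homOfLE h).op))))
        refine (factors_iff_exists _ _).2 ⟨T', e, he, x ≫ X.obj.map (homOfLE h).op, ?_⟩
        have h1 : e ≫ (imageSubobject (φ.hom.app (op q) ≫ Y.obj.map (homOfLE h).op)).arrow =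
            x ≫ φ.hom.app (op q) ≫ Y.obj.map (homOfLE h).op := by
          have := congrArg (· ≫ (imageSubobject (φ.hom.app (op q) ≫ Y.obj.map (homOfLE h).op)).arrow) hx
          simpa using this
        rw [Category.assoc, φ.hom.naturality]
        exact h1
      · exact imageSubobject_le_mk _ _ (φ.hom.app (op q)) rfl
    · refine Subobject.le_of_factors ?_
      set P := imageSubobject (φ.hom.app (op p)) ⊓ Subobject.mk (Y.obj.map (homOfLE h).op)
      have h1 : (imageSubobject (φ.hom.app (op p))).Factors P.arrow :=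
        Subobject.factors_of_le _ inf_le_left P.factors_self
      have h2 : (Subobject.mk (Y.obj.map (homOfLE h).op)).Factors P.arrow :=
        Subobject.factors_of_le _ inf_le_right P.factors_self
      obtain ⟨y, hy⟩ : ∃ y : Subobject.underlying.obj P ⟶ Y.obj.obj (op q),
          y ≫ Y.obj.map (homOfLE h).op = P.arrow := (Subobject.mk_factors_iff _ _).1 h2
      obtain ⟨T', e, he, x, hx⟩ := (factors_iff_exists _ _).1 h1
      obtain ⟨T'', e', he', x', hx'⟩ := hs p q h x (e ≫ y) (by rw [← hx, Category.assoc, hy])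
      refine (factors_iff_exists _ _).2 ⟨T'', e' ≫ e, inferInstance, x', ?_⟩
      rw [← Category.assoc x', ← hx', Category.assoc, Category.assoc, Category.assoc, hy]

end Groth.Agent.Lib.Fil.Raw
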