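/-
Finite filtered objects: exactness and strictness from graded pieces, extension into filtered
injective objects.
-/
import Groth.Agent.Lib.Fil.Raw
import Mathlib.CategoryTheory.Preadditive.Injective.Basic
import Mathlib.CategoryTheory.Limits.FunctorCategory.EpiMono
import Mathlib.Algebra.Homology.ShortComplex.Exact

set_option autoImplicit false
set_option linter.unusedSectionVars false

open CategoryTheory CategoryTheory.Limits Opposite Groth.Agent.Lib.Fil.Raw

namespace Groth.Agent.Lib.Fil.Obj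

universe v u

variable {A : Type u} [Category.{v} A] [Abelian A]

lemma descending {motive : ℤ → Prop} (b : ℤ) (h : ∀ p, b ≤ p → motive p)
    (step : ∀ p, motive (p + 1) → motive p) (p : ℤ) : motive p := by
  obtain ⟨k, hk⟩ : ∃ k : ℕ, b ≤ p + k := ⟨(b - p).toNat, by omega⟩
  induction k generalizing p with
  | zero => exact h p (by simpa using hk)
  | succ k ih => exact step p (ih (p + 1) (by push_cast at hk; omega))

/-- Natural transformations are determined by steps. -/
lemma naturality_of_step {F G : ℤᵒᵖ ⥤ A} (g : ∀ p : ℤ, F.obj (op p) ⟶ G.obj (op p))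
    (h : ∀ p : ℤ, st F p ≫ g p = g (p + 1) ≫ st G p) (p q : ℤ) (hpq : p ≤ q) :
    F.map (homOfLE hpq).op ≫ g p = g q ≫ G.map (homOfLE hpq).op := by
  induction q, hpq using Int.leInduction with
  | base => simp [map_homOfLE_self]
  | succ q hq ih =>
    rw [← map_homOfLE_comp F hq (Int.le_add_one le_rfl), ← map_homOfLE_comp G hq (Int.le_add_one le_rfl),
      Category.assoc, ih]
    exact (Category.assoc _ _ _).symm.trans ((congrArg (· ≫ _) (h q)).trans (Category.assoc _ _ _))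

/-- The natural transformation with given components. -/
def natTransOfStep {F G : ℤᵒᵖ ⥤ A} (g : ∀ p : ℤ, F.obj (op p) ⟶ G.obj (op p))
    (h : ∀ p : ℤ, st F p ≫ g p = g (p + 1) ≫ st G p) : F ⟶ G where
  app p := g p.unop
  naturality p q f := naturality_of_step g h q.unop p.unop (leOfHom f.unop)

section raw

variable {F G H : ℤᵒᵖ ⥤ A} (φ : F ⟶ G) (ψ : G ⟶ H)

lemma level_exact_of_gr (w : φ ≫ ψ = 0) (hH : ∀ p, Mono (st H p)) (b : ℤ)
    (hb : ∀ p, b ≤ p → IsZero (G.obj (op p)))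
    (hgr : ∀ p : ℤ, ∀ ⦃T : A⦄ (x : T ⟶ (_root_.FilD.gr A p).obj G),
      x ≫ (_root_.FilD.gr A p).map ψ = 0 →
        ∃ (T' : A) (e : T' ⟶ T) (_ : Epi e) (y : T' ⟶ (_root_.FilD.gr A p).obj F),
          e ≫ x = y ≫ (_root_.FilD.gr A p).map φ)
    (p : ℤ) : ∀ ⦃T : A⦄ (y : T ⟶ G.obj (op p)), y ≫ ψ.app (op p) = 0 →
      ∃ (T' : A) (e : T' ⟶ T) (_ : Epi e) (x : T' ⟶ F.obj (op p)), e ≫ y = x ≫ φ.app (op p) := by
  refine descending (motive := fun p => ∀ ⦃T : A⦄ (y : T ⟶ G.obj (op p)), y ≫ ψ.app (op p) = 0 →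
      ∃ (T' : A) (e : T' ⟶ T) (_ : Epi e) (x : T' ⟶ F.obj (op p)), e ≫ y = x ≫ φ.app (op p))
    b ?_ ?_ p
  · intro p hp T y _
    exact ⟨T, 𝟙 T, inferInstance, 0, (hb p hp).eq_of_tgt _ _⟩
  · intro p ih T y hy
    obtain ⟨T₁, e₁, he₁, xb, hxb⟩ := hgr p (y ≫ π G p) (by simp [reassoc_of% hy])
    obtain ⟨T₂, e₂, he₂, x, hx⟩ := exists_lift_π p xb
    obtain ⟨T₃, e₃, he₃, y', hy'⟩ := exists_of_π_eq_zero p (e₂ ≫ e₁ ≫ y - x ≫ φ.app (op p)) (by
      simp [hxb, reassoc_of% hx])
    obtain ⟨T₄, e₄, he₄, x', hx'⟩ := ih y' (by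
      have := hH p
      rw [← cancel_mono (st H p), zero_comp, Category.assoc, ← st_naturality ψ, ← reassoc_of% hy']
      have e0 : φ.app (op p) ≫ ψ.app (op p) = 0 := by rw [← NatTrans.comp_app, w]; rfl
      simp [hy, e0])
    refine ⟨T₄, e₄ ≫ e₃ ≫ e₂ ≫ e₁, inferInstance, x' ≫ st F p + e₄ ≫ e₃ ≫ x, ?_⟩
    have := congrArg (e₄ ≫ ·) hy'
    simp only [Preadditive.comp_sub, reassoc_of% hx'] at this
    simp only [Preadditive.add_comp, Category.assoc, st_naturality]
    rw [← this]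
    abel

lemma strict_right_of_gr (w : φ ≫ ψ = 0)
    (hgr : ∀ p : ℤ, ∀ ⦃T : A⦄ (x : T ⟶ (_root_.FilD.gr A p).obj G),
      x ≫ (_root_.FilD.gr A p).map ψ = 0 →
        ∃ (T' : A) (e : T' ⟶ T) (_ : Epi e) (y : T' ⟶ (_root_.FilD.gr A p).obj F),
          e ≫ x = y ≫ (_root_.FilD.gr A p).map φ)
    (hH : ∀ p, Mono (st H p)) : Strict ψ := by
  refine strict_of_step ψ fun p T y z hyz => ?_
  obtain ⟨T₁, e₁, he₁, xb, hxb⟩ := hgr p (y ≫ π G p) (by simp [reassoc_of% hyz])
  obtain ⟨T₂, e₂, he₂, x, hx⟩ := exists_lift_π p xb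
  obtain ⟨T₃, e₃, he₃, y', hy'⟩ := exists_of_π_eq_zero p (e₂ ≫ e₁ ≫ y - x ≫ φ.app (op p)) (by
    simp [hxb, reassoc_of% hx])
  refine ⟨T₃, e₃ ≫ e₂ ≫ e₁, inferInstance, y', ?_⟩
  have := hH p
  rw [← cancel_mono (st H p), Category.assoc y', ← st_naturality ψ, ← reassoc_of% hy']
  have e0 : φ.app (op p) ≫ ψ.app (op p) = 0 := by rw [← NatTrans.comp_app, w]; rfl
  simp [hyz, e0]

lemma strict_left_of_level (w : φ ≫ ψ = 0) (hH : ∀ p, Mono (st H p))
    (hex : ∀ (p : ℤ), ∀ ⦃T : A⦄ (y : T ⟶ G.obj (op p)), y ≫ ψ.app (op p) = 0 →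
      ∃ (T' : A) (e : T' ⟶ T) (_ : Epi e) (x : T' ⟶ F.obj (op p)), e ≫ y = x ≫ φ.app (op p)) :
    Strict φ := by
  refine strict_of_step φ fun p T x y hxy => hex (p + 1) y ?_
  have := hH p
  have e0 : φ.app (op p) ≫ ψ.app (op p) = 0 := by rw [← NatTrans.comp_app, w]; rfl
  rw [← cancel_mono (st H p), Category.assoc, ← st_naturality ψ, ← reassoc_of% hxy, e0]
  simp

lemma mono_level_of_gr (hG : ∀ p, Mono (st G p)) (b : ℤ) (hb : ∀ p, b ≤ p → IsZero (F.obj (op p)))
    (hgr : ∀ p, Mono ((_root_.FilD.gr A p).map φ)) (p : ℤ) : Mono (φ.app (op p)) := by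
  refine descending (motive := fun p => Mono (φ.app (op p))) b
    (fun p hp => ⟨fun _ _ _ => (hb p hp).eq_of_tgt _ _⟩) (fun p ih => ?_) p
  refine Preadditive.mono_of_cancel_zero _ fun {T} x hx => ?_
  have h := hgr p
  obtain ⟨T₁, e₁, he₁, y, hy⟩ := exists_of_π_eq_zero p x (by
    rw [← cancel_mono ((_root_.FilD.gr A p).map φ)]; simp [reassoc_of% hx])
  have := hG p
  have hy0 : y = 0 := by
    rw [← cancel_mono (φ.app (op (p + 1))), zero_comp, ← cancel_mono (st G p), zero_comp,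
      Category.assoc, ← st_naturality, ← reassoc_of% hy, hx, comp_zero]
  rw [← cancel_epi e₁, hy, hy0]
  simp

lemma strict_of_mono_gr (hG : ∀ p, Mono (st G p)) (hgr : ∀ p, Mono ((_root_.FilD.gr A p).map φ)) :
    Strict φ := by
  refine strict_of_step φ fun p T x y hxy => ?_
  have h := hgr p
  obtain ⟨T₁, e₁, he₁, x', hx'⟩ := exists_of_π_eq_zero p x (by
    rw [← cancel_mono ((_root_.FilD.gr A p).map φ)]; simp [reassoc_of% hxy])
  refine ⟨T₁, e₁, he₁, x', ?_⟩
  have := hG p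
  rw [← cancel_mono (st G p), Category.assoc, Category.assoc, ← st_naturality, ← reassoc_of% hx', hxy]

lemma mono_gr_of_strict (hφ : Strict φ) (hm : ∀ p, Mono (φ.app (op p))) (p : ℤ) :
    Mono ((_root_.FilD.gr A p).map φ) := by
  refine Preadditive.mono_of_cancel_zero _ fun {T} xb hxb => ?_
  obtain ⟨T₁, e₁, he₁, x, hx⟩ := exists_lift_π p xb
  obtain ⟨T₂, e₂, he₂, y, hy⟩ := exists_of_π_eq_zero p (x ≫ φ.app (op p)) (by
    rw [Category.assoc, ← π_map, ← reassoc_of% hx, hxb, comp_zero])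
  obtain ⟨T₃, e₃, he₃, x', hx'⟩ := hφ.step p (e₂ ≫ x) y (by rw [Category.assoc, hy])
  have := hm p
  have h3 : e₃ ≫ e₂ ≫ x = x' ≫ st F p := by
    rw [← cancel_mono (φ.app (op p)), Category.assoc, Category.assoc, Category.assoc, hy,
      st_naturality, reassoc_of% hx']
  rw [← cancel_epi (e₃ ≫ e₂ ≫ e₁), Category.assoc, Category.assoc, hx, ← Category.assoc e₂,
    ← Category.assoc e₃, h3]
  simp

end raw

section fil

variable {X Y I : _root_.FilD.FilF A}

lemma exists_top (X : _root_.FilD.FilF A) : ∃ b : ℤ, ∀ p, b ≤ p → IsZero (X.obj.obj (op p)) :=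
  X.property.2.1

lemma mono_st (X : _root_.FilD.FilF A) (p : ℤ) : Mono (st X.obj p) := X.property.1 _

/-- The kernel, computed levelwise, of a map of finite filtered objects is a finite filtered object. -/
lemma isFinFil_kernel {F G : ℤᵒᵖ ⥤ A} (φ : F ⟶ G) (hF : _root_.FilD.IsFinFil A F)
    (hG : _root_.FilD.IsFinFil A G) : _root_.FilD.IsFinFil A (kernel φ) := by
  obtain ⟨hm, ⟨b, hb⟩, ⟨a, ha⟩⟩ := hF
  obtain ⟨hm', -, ⟨a', ha'⟩⟩ := hG
  have hι : ∀ p, Mono ((kernel.ι φ).app p) := fun p => inferInstance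
  refine ⟨fun p q f => ?_, ⟨b, fun p hp => IsZero.of_mono ((kernel.ι φ).app _) (hb p hp)⟩,
    ⟨min a a', fun p q f hp => ?_⟩⟩
  · have := hm f
    have := hι p
    have : Mono ((kernel φ).map f ≫ (kernel.ι φ).app q) := by
      rw [(kernel.ι φ).naturality]; infer_instance
    exact mono_of_mono _ ((kernel.ι φ).app q)
  · have := ha f (by omega)
    have := ha' f (by omega)
    have : Mono ((kernel φ).map f) := by
      have := hι p
      have : Mono ((kernel φ).map f ≫ (kernel.ι φ).app q) := by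
        rw [(kernel.ι φ).naturality]; infer_instance
      exact mono_of_mono _ ((kernel.ι φ).app q)
    have : Epi ((kernel φ).map f) := by
      rw [epi_iff_surjective_up_to_refinements]
      intro T x
      have hx : (x ≫ (kernel.ι φ).app q ≫ inv (F.map f)) ≫ φ.app p = 0 := by
        rw [← cancel_mono (G.map f), zero_comp]
        simp only [Category.assoc, ← φ.naturality, IsIso.inv_hom_id_assoc, ← NatTrans.comp_app,
          kernel.condition, NatTrans.app_zero, comp_zero, zero_comp]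
      obtain ⟨T', e, he, z, hz⟩ : ∃ (T' : A) (e : T' ⟶ T) (_ : Epi e) (z : T' ⟶ (kernel φ).obj p),
          e ≫ (x ≫ (kernel.ι φ).app q ≫ inv (F.map f)) = z ≫ (kernel.ι φ).app p :=
        ((ShortComplex.exact_of_f_is_kernel (ShortComplex.mk (kernel.ι φ) φ (kernel.condition φ))
          (kernelIsKernel φ)).map ((evaluation ℤᵒᵖ A).obj p)).exact_up_to_refinements _ hx
      refine ⟨T', e, he, z, ?_⟩
      have := hι q
      rw [← cancel_mono ((kernel.ι φ).app q), Category.assoc, Category.assoc, (kernel.ι φ).naturality]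
      have := congrArg (· ≫ F.map f) hz
      simpa using this
    exact isIso_of_mono_of_epi _

lemma mono_app (φ : X ⟶ Y) [Mono φ] (p : ℤᵒᵖ) : Mono (φ.hom.app p) := by
  let K : _root_.FilD.FilF A := ⟨kernel φ.hom, isFinFil_kernel φ.hom X.property Y.property⟩
  let ι : K ⟶ X := ObjectProperty.homMk (kernel.ι φ.hom)
  have hι : ι = 0 := by
    rw [← cancel_mono φ, zero_comp]
    apply ObjectProperty.hom_ext
    exact kernel.condition φ.hom
  have h0 : (kernel.ι φ.hom).app p = 0 := by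
    have := congrArg (fun t => t.hom.app p) hι
    simpa [ι] using! this
  refine Preadditive.mono_of_cancel_zero _ fun {T} x hx => ?_
  obtain ⟨T', e, he, z, hz⟩ : ∃ (T' : A) (e : T' ⟶ T) (_ : Epi e) (z : T' ⟶ (kernel φ.hom).obj p),
      e ≫ x = z ≫ (kernel.ι φ.hom).app p :=
    ((ShortComplex.exact_of_f_is_kernel (ShortComplex.mk (kernel.ι φ.hom) φ.hom (kernel.condition φ.hom))
      (kernelIsKernel φ.hom)).map ((evaluation ℤᵒᵖ A).obj p)).exact_up_to_refinements x hx
  rw [← cancel_epi e, hz]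
  simp [h0]

lemma injective_level (hI : _root_.FilD.IsFilteredInjective I) (p : ℤ) :
    Injective (I.obj.obj (op p)) := by
  obtain ⟨b, hb⟩ := exists_top I
  refine descending (motive := fun p => Injective (I.obj.obj (op p))) b
    (fun p hp => ?_) (fun p ih => ?_) p
  · exact ⟨fun _ _ _ => ⟨0, (hb p hp).eq_of_tgt _ _⟩⟩
  · have := mono_st I p
    have : Injective ((_root_.FilD.gr A p).obj I.obj) := hI p
    let S := ShortComplex.mk (st I.obj p) (π I.obj p) (st_π I.obj p)
    have hS : S.Exact := S.exact_of_g_is_cokernel (cokernelIsCokernel _)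
    have : Mono S.f := mono_st I p
    have : Injective S.X₁ := ih
    let σ := ShortComplex.Splitting.ofExactOfRetraction S hS (Injective.factorThru (𝟙 _) S.f)
      (Injective.comp_factorThru _ _) (epi_π _ _)
    have : Injective S.X₃ := hI p
    exact Injective.of_iso σ.isoBinaryBiproduct.symm inferInstance

/-- One step of the extension. -/
lemma extend_step {d : X ⟶ Y} (hd : Strict d.hom) (hI : _root_.FilD.IsFilteredInjective I)
    (f : X ⟶ I)
    (hker : ∀ (p : ℤ) ⦃T : A⦄ (x : T ⟶ X.obj.obj (op p)), x ≫ d.hom.app (op p) = 0 →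
      x ≫ f.hom.app (op p) = 0)
    (p : ℤ) (g' : Y.obj.obj (op (p + 1)) ⟶ I.obj.obj (op (p + 1)))
    (hg' : d.hom.app (op (p + 1)) ≫ g' = f.hom.app (op (p + 1))) :
    ∃ g : Y.obj.obj (op p) ⟶ I.obj.obj (op p),
      d.hom.app (op p) ≫ g = f.hom.app (op p) ∧ st Y.obj p ≫ g = g' ≫ st I.obj p := by
  let D := biprod.desc (d.hom.app (op p)) (st Y.obj p)
  let t := biprod.desc (f.hom.app (op p)) (g' ≫ st I.obj p)
  have h0 : kernel.ι D ≫ t = 0 := by
    have hk := kernel.condition D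
    obtain ⟨x, y, hkι⟩ : ∃ x y, kernel.ι D = biprod.lift x y :=
      ⟨kernel.ι D ≫ biprod.fst, kernel.ι D ≫ biprod.snd, by apply biprod.hom_ext <;> simp⟩
    rw [hkι, biprod.lift_desc] at hk
    rw [hkι, biprod.lift_desc]
    obtain ⟨T', e, he, x', hx'⟩ := hd.step p x (-y) (by
      rw [Preadditive.neg_comp, eq_neg_iff_add_eq_zero, hk])
    have hk' : (e ≫ x - x' ≫ st X.obj p) ≫ d.hom.app (op p) = 0 := by
      rw [Preadditive.sub_comp, Category.assoc, Category.assoc, st_naturality, ← reassoc_of% hx',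
        Preadditive.neg_comp, Preadditive.comp_neg, sub_neg_eq_add, ← Preadditive.comp_add, hk,
        comp_zero]
    have h1 := hker p _ hk'
    rw [Preadditive.sub_comp, Category.assoc, Category.assoc, st_naturality, ← reassoc_of% hg',
      ← reassoc_of% hx', sub_eq_zero] at h1
    rw [← cancel_epi e, comp_zero, Preadditive.comp_add, h1]
    simp
  have := injective_level hI p
  let g := Injective.factorThru (cokernel.desc (kernel.ι D) t h0) (Abelian.factorThruCoimage D)
  have hD : D ≫ g = t := by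
    rw [← Abelian.coimage.fac D, Category.assoc]
    simp only [g, Injective.comp_factorThru]
    exact cokernel.π_desc _ _ _
  refine ⟨g, ?_, ?_⟩
  · simpa [D, t] using congrArg (biprod.inl ≫ ·) hD
  · simpa [D, t] using congrArg (biprod.inr ≫ ·) hD

/-- Extension of maps into filtered injective objects along strict maps. -/
lemma exists_extension {d : X ⟶ Y} (hd : Strict d.hom) (hI : _root_.FilD.IsFilteredInjective I)
    (f : X ⟶ I)
    (hker : ∀ (p : ℤ) ⦃T : A⦄ (x : T ⟶ X.obj.obj (op p)), x ≫ d.hom.app (op p) = 0 →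
      x ≫ f.hom.app (op p) = 0) :
    ∃ g : Y ⟶ I, d ≫ g = f := by
  obtain ⟨b₁, hb₁⟩ := exists_top X
  obtain ⟨b₂, hb₂⟩ := exists_top Y
  let b := max b₁ b₂
  let Good (k : ℕ) (G : ∀ q : ℤ, Y.obj.obj (op q) ⟶ I.obj.obj (op q)) : Prop :=
    ∀ q : ℤ, b - k ≤ q → d.hom.app (op q) ≫ G q = f.hom.app (op q) ∧
      st Y.obj q ≫ G q = G (q + 1) ≫ st I.obj q
  have h0 : Good 0 (fun _ => 0) := fun q hq =>
    ⟨(hb₁ q (by omega)).eq_of_src _ _, (hb₂ (q + 1) (by omega)).eq_of_src _ _⟩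
  have hstep : ∀ (k : ℕ) (G : ∀ q : ℤ, Y.obj.obj (op q) ⟶ I.obj.obj (op q)), Good k G →
      ∃ G', Good (k + 1) G' ∧ ∀ q : ℤ, b - k ≤ q → G' q = G q := by
    intro k G hG
    obtain ⟨g, hg₁, hg₂⟩ := extend_step hd hI f hker (b - k - 1) (G (b - k - 1 + 1))
      (hG _ (by omega)).1
    refine ⟨fun q => if h : q = b - k - 1 then h ▸ g else G q, fun q hq => ?_, fun q hq => ?_⟩
    · by_cases h : q = b - k - 1
      · subst h
        simp only [dite_true]
        rw [dif_neg (by omega : ¬ (b - k - 1 + 1 = b - k - 1))]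
        exact ⟨hg₁, hg₂⟩
      · dsimp only
        rw [dif_neg h, dif_neg (by omega : ¬ (q + 1 = b - k - 1))]
        exact hG q (by push_cast at hq; omega)
    · dsimp only
      rw [dif_neg (by omega)]
  choose next hnext₁ hnext₂ using hstep
  let seq : ∀ k : ℕ, {G // Good k G} :=
    fun k => Nat.rec (motive := fun k => {G // Good k G}) ⟨_, h0⟩
      (fun k S => ⟨next k S.1 S.2, hnext₁ k S.1 S.2⟩) k
  have hmono : ∀ (k l : ℕ), k ≤ l → ∀ q : ℤ, b - k ≤ q → (seq l).1 q = (seq k).1 q := by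
    intro k l hkl
    induction l, hkl using Nat.le_induction with
    | base => intros; rfl
    | succ l hl ih =>
      intro q hq
      exact (hnext₂ l _ (seq l).2 q (by omega)).trans (ih q hq)
  let g : ∀ q : ℤ, Y.obj.obj (op q) ⟶ I.obj.obj (op q) := fun q => (seq (b - q).toNat).1 q
  have hgq : ∀ (q : ℤ) (k : ℕ), b - k ≤ q → g q = (seq k).1 q := fun q k hk =>
    (hmono (b - q).toNat k (by omega) q (by omega)).symm
  refine ⟨ObjectProperty.homMk (natTransOfStep g fun q => ?_), ?_⟩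
  · rw [hgq q (b - q).toNat (by omega), hgq (q + 1) (b - q).toNat (by omega)]
    exact ((seq (b - q).toNat).2 q (by omega)).2
  · apply ObjectProperty.hom_ext
    ext p
    exact ((seq (b - p.unop).toNat).2 p.unop (by omega)).1

end fil

end Groth.Agent.Lib.Fil.Obj
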