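/-
Cokernels of strict maps of finite filtered objects.
-/
import Groth.Agent.Lib.Fil.Obj

set_option autoImplicit false

open CategoryTheory CategoryTheory.Limits Opposite Groth.Agent.Lib.Fil.Raw Groth.Agent.Lib.Fil.Obj

namespace Groth.Agent.Lib.Fil.Coker

universe v u

variable {A : Type u} [Category.{v} A] [Abelian A]
variable {F G Q : ℤᵒᵖ ⥤ A} (φ : F ⟶ G) (ψ : G ⟶ Q)

lemma isFinFil (hF : _root_.FilD.IsFinFil A F) (hG : _root_.FilD.IsFinFil A G) (hφ : Strict φ)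
    (w : φ ≫ ψ = 0) (hψ : ∀ p, Epi (ψ.app p))
    (hex : ∀ (p : ℤᵒᵖ) ⦃T : A⦄ (x : T ⟶ G.obj p), x ≫ ψ.app p = 0 →
      ∃ (T' : A) (e : T' ⟶ T) (_ : Epi e) (z : T' ⟶ F.obj p), e ≫ x = z ≫ φ.app p) :
    _root_.FilD.IsFinFil A Q := by
  have w' : ∀ p, φ.app p ≫ ψ.app p = 0 := fun p => by rw [← NatTrans.comp_app, w]; rfl
  obtain ⟨-, ⟨b, hb⟩, ⟨a, ha⟩⟩ := hG
  have hm : ∀ ⦃p q : ℤᵒᵖ⦄ (f : p ⟶ q), Mono (Q.map f) := fun p q f => by
    refine Preadditive.mono_of_cancel_zero _ fun {T} y hy => ?_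
    have := hψ p
    obtain ⟨T₁, e₁, he₁, x, hx⟩ := surjective_up_to_refinements_of_epi (ψ.app p) y
    obtain ⟨T₂, e₂, he₂, z, hz⟩ := hex q (x ≫ G.map f) (by
      rw [Category.assoc, ψ.naturality, ← reassoc_of% hx, hy, comp_zero])
    have hfe : f = (homOfLE (leOfHom f.unop)).op := rfl
    obtain ⟨T₃, e₃, he₃, z', hz'⟩ := hφ q.unop p.unop (leOfHom f.unop) z (e₂ ≫ x) (by
      rw [Category.assoc, ← hfe]
      exact hz.symm)
    rw [← cancel_epi (e₃ ≫ e₂ ≫ e₁), comp_zero]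
    simp only [Category.assoc, hx]
    rw [← Category.assoc e₂, ← Category.assoc e₃]
    exact (congrArg (· ≫ ψ.app p) hz').trans ((Category.assoc _ _ _).trans
      ((congrArg (z' ≫ ·) (w' p)).trans comp_zero))
  refine ⟨hm, ⟨b, fun p hp => IsZero.of_epi (ψ.app _) (hb p hp)⟩, ⟨a, fun p q f hp => ?_⟩⟩
  have := hm f
  have := ha f hp
  have := hψ q
  have : Epi (ψ.app p ≫ Q.map f) := by rw [← ψ.naturality]; infer_instance
  have : Epi (Q.map f) := epi_of_epi (ψ.app p) _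
  exact isIso_of_mono_of_epi _

lemma gr_exact (w : φ ≫ ψ = 0) (p : ℤ) (hψ : Epi (ψ.app (op (p + 1))))
    (hex : ∀ ⦃T : A⦄ (x : T ⟶ G.obj (op p)), x ≫ ψ.app (op p) = 0 →
      ∃ (T' : A) (e : T' ⟶ T) (_ : Epi e) (z : T' ⟶ F.obj (op p)), e ≫ x = z ≫ φ.app (op p))
    {T : A} (xb : T ⟶ (_root_.FilD.gr A p).obj G) (h : xb ≫ (_root_.FilD.gr A p).map ψ = 0) :
    ∃ (T' : A) (e : T' ⟶ T) (_ : Epi e) (yb : T' ⟶ (_root_.FilD.gr A p).obj F),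
      e ≫ xb = yb ≫ (_root_.FilD.gr A p).map φ := by
  obtain ⟨T₁, e₁, he₁, x, hx⟩ := exists_lift_π p xb
  obtain ⟨T₂, e₂, he₂, y, hy⟩ := exists_of_π_eq_zero p (x ≫ ψ.app (op p)) (by
    rw [Category.assoc, ← π_map, ← reassoc_of% hx, h, comp_zero])
  obtain ⟨T₃, e₃, he₃, x', hx'⟩ := surjective_up_to_refinements_of_epi (ψ.app (op (p + 1))) y
  obtain ⟨T₄, e₄, he₄, z, hz⟩ := hex (e₃ ≫ e₂ ≫ x - x' ≫ st G p) (by
    rw [Preadditive.sub_comp, Category.assoc, Category.assoc, Category.assoc, hy, st_naturality,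
      reassoc_of% hx', sub_self])
  refine ⟨T₄, e₄ ≫ e₃ ≫ e₂ ≫ e₁, inferInstance, z ≫ π F p, ?_⟩
  simp only [Category.assoc, π_map]
  rw [← reassoc_of% hz, hx]
  simp

lemma exact_up_to_refinements_cokernel (p : ℤᵒᵖ) ⦃T : A⦄ (x : T ⟶ G.obj p)
    (hx : x ≫ (cokernel.π φ).app p = 0) :
    ∃ (T' : A) (e : T' ⟶ T) (_ : Epi e) (z : T' ⟶ F.obj p), e ≫ x = z ≫ φ.app p :=
  ((ShortComplex.exact_of_g_is_cokernel (ShortComplex.mk φ (cokernel.π φ) (cokernel.condition φ))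
    (cokernelIsCokernel φ)).map ((evaluation ℤᵒᵖ A).obj p)).exact_up_to_refinements x hx

end Groth.Agent.Lib.Fil.Coker
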