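/-
Truncations of filtered complexes.
-/
import Groth.Agent.Lib.Fil.Coker
import Groth.Agent.Lib.Fil.Biprod
import Groth.Agent.S1085
import Mathlib.Algebra.Homology.Embedding.CochainComplex
import Mathlib.Algebra.Homology.Refinements

set_option autoImplicit false

open CategoryTheory CategoryTheory.Limits Opposite Groth.Agent.Lib.Fil.Raw Groth.Agent.Lib.Fil.Obj

namespace Groth.Agent.Lib.Fil.Trunc

universe v u

section general

lemma isIso_of_zeros {C : Type u} [Category.{v} C] [HasZeroMorphisms C] {X Y : C} (hX : IsZero X)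
    (hY : IsZero Y) (f : X ⟶ Y) : IsIso f :=
  ⟨0, hX.eq_of_src _ _, hY.eq_of_src _ _⟩

variable {C : Type u} [Category.{v} C] [Abelian C] (K : CochainComplex C ℤ)

lemma isIso_πTruncGE_f (a n : ℤ) (h : a < n) : IsIso ((K.πTruncGE a).f n) := by
  let e := ComplexShape.embeddingUpIntGE a
  obtain ⟨k, rfl⟩ := Int.le.dest h.le
  have hk : e.f k = a + (k : ℤ) := rfl
  have : ¬ e.BoundaryGE k := by
    rw [ComplexShape.boundaryGE_embeddingUpIntGE_iff]; omega
  change IsIso ((e.liftExtend (K.restrictionToTruncGE' e) (K.restrictionToTruncGE'_hasLift e)).f _)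
  rw [e.isIso_liftExtend_f_iff _ _ hk]
  exact K.isIso_restrictionToTruncGE' e k this

lemma isIso_ιTruncLE_f (b n : ℤ) (h : n < b) : IsIso ((K.ιTruncLE b).f n) := by
  let e := ComplexShape.embeddingUpIntLE b
  obtain ⟨k, rfl⟩ : ∃ k : ℕ, n = b - k := ⟨(b - n).toNat, by omega⟩
  have : ¬ e.BoundaryLE k := by
    rw [ComplexShape.boundaryLE_embeddingUpIntLE_iff]; omega
  change IsIso (((HomologicalComplex.πTruncGE K.op e.op).f (b - k)).unop)
  have hk : e.op.f k = b - (k : ℤ) := rfl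
  have : IsIso ((HomologicalComplex.πTruncGE K.op e.op).f (b - k)) := by
    change IsIso ((e.op.liftExtend (K.op.restrictionToTruncGE' e.op)
      (K.op.restrictionToTruncGE'_hasLift e.op)).f _)
    rw [e.op.isIso_liftExtend_f_iff _ _ hk]
    exact K.op.isIso_restrictionToTruncGE' e.op k (by simpa using this)
  infer_instance

lemma πTruncGE_ker (a : ℤ) {T : C} (x : T ⟶ K.X a) (hx : x ≫ (K.πTruncGE a).f a = 0) :
    ∃ (T' : C) (e : T' ⟶ T) (_ : Epi e) (z : T' ⟶ K.X (a - 1)), e ≫ x = z ≫ K.d (a - 1) a := by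
  have := isIso_πTruncGE_f K a (a + 1) (by omega)
  have hd : x ≫ K.d a (a + 1) = 0 := by
    rw [← cancel_mono ((K.πTruncGE a).f (a + 1)), zero_comp, Category.assoc, ← HomologicalComplex.Hom.comm,
      reassoc_of% hx, zero_comp]
  have h : Mono (HomologicalComplex.homologyMap (K.πTruncGE a) a) := inferInstance
  rw [HomologicalComplex.mono_homologyMap_iff_up_to_refinements _ (a - 1) a (a + 1) (by simp) (by simp)] at h
  exact h x hd 0 (by rw [hx, zero_comp])

lemma ιTruncLE_lift (b : ℤ) {T : C} (x : T ⟶ K.X b) (hx : x ≫ K.d b (b + 1) = 0) :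
    ∃ (T' : C) (e : T' ⟶ T) (_ : Epi e) (z : T' ⟶ (K.truncLE b).X b),
      e ≫ x = z ≫ (K.ιTruncLE b).f b := by
  have := isIso_ιTruncLE_f K b (b - 1) (by omega)
  have h : Epi (HomologicalComplex.homologyMap (K.ιTruncLE b) b) := inferInstance
  rw [HomologicalComplex.epi_homologyMap_iff_up_to_refinements _ (b - 1) b (b + 1) (by simp) (by simp)] at h
  obtain ⟨T', e, he, z, -, w, hw⟩ := h x hx
  refine ⟨T', e, he, z + w ≫ inv ((K.ιTruncLE b).f (b - 1)) ≫ (K.truncLE b).d (b - 1) b, ?_⟩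
  rw [hw, Preadditive.add_comp, Category.assoc, Category.assoc, ← HomologicalComplex.Hom.comm,
    IsIso.inv_hom_id_assoc]

lemma quasiIso_of_epi_ker {E F : CochainComplex C ℤ} (w : E ⟶ F) (a : ℤ)
    (hF : ∀ i, i < a → IsZero (F.X i)) (hE : ∀ i, i < a → E.ExactAt i)
    (hiso : ∀ i, a < i → IsIso (w.f i)) (hepi : Epi (w.f a))
    (hker : ∀ ⦃T : C⦄ (x : T ⟶ E.X a), x ≫ w.f a = 0 →
      ∃ (T' : C) (e : T' ⟶ T) (_ : Epi e) (z : T' ⟶ E.X (a - 1)), e ≫ x = z ≫ E.d (a - 1) a) :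
    QuasiIso w := by
  refine ⟨fun i => ?_⟩
  rw [quasiIsoAt_iff_isIso_homologyMap]
  by_cases hi : i < a
  · exact isIso_of_zeros ((hE i hi).isZero_homology) (HomologicalComplex.ExactAt.isZero_homology
      ((HomologicalComplex.exactAt_iff _ _).2 (ShortComplex.exact_of_isZero_X₂ _ (hF i hi)))) _
  have : Epi (HomologicalComplex.homologyMap w i) := by
    rw [HomologicalComplex.epi_homologyMap_iff_up_to_refinements _ (i - 1) i (i + 1) (by simp) (by simp)]
    intro T y hy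
    have : Epi (w.f i) := by
      rcases (not_lt.1 hi).lt_or_eq with h | h
      · have := hiso i h; infer_instance
      · exact h ▸ hepi
    obtain ⟨T', e, he, x, hx⟩ := surjective_up_to_refinements_of_epi (w.f i) y
    have := hiso (i + 1) (by omega)
    refine ⟨T', e, he, x, ?_, 0, by simp [hx]⟩
    rw [← cancel_mono (w.f (i + 1)), zero_comp, Category.assoc, ← w.comm, ← reassoc_of% hx, hy, comp_zero]
  have : Mono (HomologicalComplex.homologyMap w i) := by
    rw [HomologicalComplex.mono_homologyMap_iff_up_to_refinements _ (i - 1) i (i + 1) (by simp) (by simp)]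
    intro T x _ y hxy
    rcases (not_lt.1 hi).lt_or_eq with h | h
    · have : Epi (w.f (i - 1)) := by
        rcases (show a ≤ i - 1 by omega).lt_or_eq with h' | h'
        · have := hiso (i - 1) h'; infer_instance
        · exact h' ▸ hepi
      obtain ⟨T', e, he, x', hx'⟩ := surjective_up_to_refinements_of_epi (w.f (i - 1)) y
      have := hiso i h
      refine ⟨T', e, he, x', ?_⟩
      rw [← cancel_mono (w.f i), Category.assoc, hxy, reassoc_of% hx', Category.assoc, w.comm]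
    · subst h
      exact hker x (by rw [hxy, (hF (a - 1) (by omega)).eq_of_tgt y 0, zero_comp])
  exact isIso_of_mono_of_epi _

lemma quasiIso_of_mono_im {E F : CochainComplex C ℤ} (w : E ⟶ F) (b : ℤ)
    (hE : ∀ i, b < i → IsZero (E.X i)) (hF : ∀ i, b < i → F.ExactAt i)
    (hiso : ∀ i, i < b → IsIso (w.f i)) (hmono : Mono (w.f b))
    (him : ∀ ⦃T : C⦄ (x : T ⟶ F.X b), x ≫ F.d b (b + 1) = 0 →
      ∃ (T' : C) (e : T' ⟶ T) (_ : Epi e) (z : T' ⟶ E.X b), e ≫ x = z ≫ w.f b) :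
    QuasiIso w := by
  refine ⟨fun i => ?_⟩
  rw [quasiIsoAt_iff_isIso_homologyMap]
  by_cases hi : b < i
  · exact isIso_of_zeros (HomologicalComplex.ExactAt.isZero_homology
      ((HomologicalComplex.exactAt_iff _ _).2 (ShortComplex.exact_of_isZero_X₂ _ (hE i hi))))
      (hF i hi).isZero_homology _
  have : Mono (w.f i) := by
    rcases (not_lt.1 hi).lt_or_eq with h | h
    · have := hiso i h; infer_instance
    · exact h ▸ hmono
  have : Epi (HomologicalComplex.homologyMap w i) := by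
    rw [HomologicalComplex.epi_homologyMap_iff_up_to_refinements _ (i - 1) i (i + 1) (by simp) (by simp)]
    intro T y hy
    rcases (not_lt.1 hi).lt_or_eq with h | h
    · have := hiso i h
      refine ⟨T, 𝟙 T, inferInstance, y ≫ inv (w.f i), ?_, 0, by simp⟩
      have : Mono (w.f (i + 1)) := by
        rcases (show i + 1 ≤ b by omega).lt_or_eq with h' | h'
        · have := hiso (i + 1) h'; infer_instance
        · exact h' ▸ hmono
      rw [← cancel_mono (w.f (i + 1)), zero_comp, Category.assoc, Category.assoc, ← w.comm,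
        IsIso.inv_hom_id_assoc, hy]
    · subst h
      obtain ⟨T', e, he, z, hz⟩ := him y hy
      exact ⟨T', e, he, z, (hE (i + 1) (by omega)).eq_of_tgt _ _, 0, by simp [hz]⟩
  have : Mono (HomologicalComplex.homologyMap w i) := by
    rw [HomologicalComplex.mono_homologyMap_iff_up_to_refinements _ (i - 1) i (i + 1) (by simp) (by simp)]
    intro T x _ y hxy
    have := hiso (i - 1) (by omega)
    refine ⟨T, 𝟙 T, inferInstance, y ≫ inv (w.f (i - 1)), ?_⟩
    rw [← cancel_mono (w.f i), Category.id_comp, hxy, Category.assoc, Category.assoc, ← w.comm,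
      IsIso.inv_hom_id_assoc]
  exact isIso_of_mono_of_epi _

end general

variable {A : Type u} [Category.{v} A] [Abelian A] (K : CochainComplex (_root_.FilD.FilF A) ℤ)

/-- The underlying complex of functors. -/
noncomputable abbrev raw : CochainComplex (ℤᵒᵖ ⥤ A) ℤ :=
  ((_root_.FilD.IsFinFil A).ι.mapHomologicalComplex (ComplexShape.up ℤ)).obj K

/-- A complex of finite filtered functors as a filtered complex. -/
def liftComplex (T : CochainComplex (ℤᵒᵖ ⥤ A) ℤ) (h : ∀ n, _root_.FilD.IsFinFil A (T.X n)) :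
    CochainComplex (_root_.FilD.FilF A) ℤ where
  X n := ⟨T.X n, h n⟩
  d i j := ObjectProperty.homMk (T.d i j)
  shape i j hij := ObjectProperty.hom_ext _ (T.shape i j hij)
  d_comp_d' i j k _ _ := ObjectProperty.hom_ext _ (T.d_comp_d i j k)

lemma isZero_of_raw {X : _root_.FilD.FilF A} (h : IsZero X.obj) : IsZero X := by
  rw [IsZero.iff_id_eq_zero]
  exact ObjectProperty.hom_ext _ (h.eq_of_src _ _)

lemma exact_eval {K' : CochainComplex (ℤᵒᵖ ⥤ A) ℤ} (i : ℤ) {Q : ℤᵒᵖ ⥤ A} (j : ℤ) (ψ : K'.X j ⟶ Q)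
    (w : K'.d i j ≫ ψ = 0)
    (h : ∀ ⦃T : ℤᵒᵖ ⥤ A⦄ (x : T ⟶ K'.X j), x ≫ ψ = 0 →
      ∃ (T' : ℤᵒᵖ ⥤ A) (e : T' ⟶ T) (_ : Epi e) (z : T' ⟶ K'.X i), e ≫ x = z ≫ K'.d i j)
    (p : ℤᵒᵖ) ⦃T : A⦄ (x : T ⟶ (K'.X j).obj p) (hx : x ≫ ψ.app p = 0) :
    ∃ (T' : A) (e : T' ⟶ T) (_ : Epi e) (z : T' ⟶ (K'.X i).obj p), e ≫ x = z ≫ (K'.d i j).app p :=
  (((ShortComplex.mk (K'.d i j) ψ w).exact_iff_exact_up_to_refinements.2 h).map
    ((evaluation ℤᵒᵖ A).obj p)).exact_up_to_refinements x hx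

lemma exact_eval' {K' : CochainComplex (ℤᵒᵖ ⥤ A) ℤ} {P : ℤᵒᵖ ⥤ A} (j k : ℤ) (ψ : P ⟶ K'.X j)
    (w : ψ ≫ K'.d j k = 0)
    (h : ∀ ⦃T : ℤᵒᵖ ⥤ A⦄ (x : T ⟶ K'.X j), x ≫ K'.d j k = 0 →
      ∃ (T' : ℤᵒᵖ ⥤ A) (e : T' ⟶ T) (_ : Epi e) (z : T' ⟶ P), e ≫ x = z ≫ ψ)
    (p : ℤᵒᵖ) ⦃T : A⦄ (x : T ⟶ (K'.X j).obj p) (hx : x ≫ (K'.d j k).app p = 0) :
    ∃ (T' : A) (e : T' ⟶ T) (_ : Epi e) (z : T' ⟶ P.obj p), e ≫ x = z ≫ ψ.app p :=
  (((ShortComplex.mk ψ (K'.d j k) w).exact_iff_exact_up_to_refinements.2 h).map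
    ((evaluation ℤᵒᵖ A).obj p)).exact_up_to_refinements x hx

lemma gr_exact_kernel {P F G : ℤᵒᵖ ⥤ A} (ι : P ⟶ F) (d : F ⟶ G) (hd : Strict d) (_w : ι ≫ d = 0) (p : ℤ)
    (hlev : ∀ ⦃T : A⦄ (x : T ⟶ F.obj (op p)), x ≫ d.app (op p) = 0 →
      ∃ (T' : A) (e : T' ⟶ T) (_ : Epi e) (z : T' ⟶ P.obj (op p)), e ≫ x = z ≫ ι.app (op p))
    {T : A} (xb : T ⟶ (_root_.FilD.gr A p).obj F) (h : xb ≫ (_root_.FilD.gr A p).map d = 0) :
    ∃ (T' : A) (e : T' ⟶ T) (_ : Epi e) (yb : T' ⟶ (_root_.FilD.gr A p).obj P),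
      e ≫ xb = yb ≫ (_root_.FilD.gr A p).map ι := by
  obtain ⟨T₁, e₁, he₁, x, hx⟩ := exists_lift_π p xb
  obtain ⟨T₂, e₂, he₂, y, hy⟩ := exists_of_π_eq_zero p (x ≫ d.app (op p)) (by
    rw [Category.assoc, ← π_map, ← reassoc_of% hx, h, comp_zero])
  obtain ⟨T₃, e₃, he₃, x', hx'⟩ := hd.step p (e₂ ≫ x) y (by rw [Category.assoc, hy])
  obtain ⟨T₄, e₄, he₄, z, hz⟩ := hlev (e₃ ≫ e₂ ≫ x - x' ≫ st F p) (by
    rw [Preadditive.sub_comp, Category.assoc, Category.assoc, Category.assoc, hy, st_naturality,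
      reassoc_of% hx', sub_self])
  refine ⟨T₄, e₄ ≫ e₃ ≫ e₂ ≫ e₁, inferInstance, z ≫ Raw.π P p, ?_⟩
  simp only [Category.assoc, π_map, hx]
  rw [← reassoc_of% hz]
  simp

lemma strict_d (i j k : ℤ) (h : i + 1 = j) (h' : j + 1 = k)
    (hK : ∀ p : ℤ, ((_root_.FilD.grCx p).obj K).ExactAt j) :
    Strict (K.d i j).hom ∧ Strict (K.d j k).hom := by
  obtain ⟨-, hf, hg⟩ := Groth.Agent.S1085.result (K.sc' i j k) (fun p =>
    (HomologicalComplex.exactAt_iff' ((_root_.FilD.grCx p).obj K) i j k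
      (ComplexShape.prev_eq' _ h) (ComplexShape.next_eq' _ h')).1 (hK p))
  exact ⟨(isStrict_iff _).1 hf, (isStrict_iff _).1 hg⟩

theorem exists_truncGE (a : ℤ)
    (hK : ∀ (p n : ℤ), n < a → IsZero (((_root_.FilD.grCx p).obj K).homology n)) :
    ∃ (L : CochainComplex (_root_.FilD.FilF A) ℤ) (φ : K ⟶ L),
      L.IsStrictlyGE a ∧ _root_.FilD.IsFilteredQuasiIso φ := by
  have hex : ∀ (n : ℤ), n < a → ∀ p : ℤ, ((_root_.FilD.grCx p).obj K).ExactAt n := fun n hn p => by
    rw [HomologicalComplex.exactAt_iff_isZero_homology]; exact hK p n hn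
  have hd : Strict (K.d (a - 1) a).hom :=
    (strict_d K (a - 1 - 1) (a - 1) a (by omega) (by omega) (hex _ (by omega))).2
  let R := raw K
  let π := R.πTruncGE a
  have hz : ∀ n, n < a → IsZero ((R.truncGE a).X n) := fun n hn =>
    CochainComplex.isZero_of_isStrictlyGE _ a n hn
  have hepi : ∀ n, Epi (π.f n) := fun n =>
    inferInstanceAs (Epi ((HomologicalComplex.πTruncGE R (ComplexShape.embeddingUpIntGE a)).f n))
  have w : R.d (a - 1) a ≫ π.f a = 0 := by
    rw [← π.comm, (hz (a - 1) (by omega)).eq_of_tgt (π.f (a - 1)) 0, zero_comp]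
  have hlev := exact_eval (a - 1) a (π.f a) w (fun T x hx => πTruncGE_ker R a x hx)
  have hepi' : ∀ p, Epi ((π.f a).app p) := fun p => by have := hepi a; infer_instance
  have hfin : ∀ n, _root_.FilD.IsFinFil A ((R.truncGE a).X n) := by
    intro n
    rcases lt_trichotomy n a with h | h | h
    · exact (_root_.FilD.IsFinFil A).prop_of_isZero (hz n h)
    · subst h
      exact Coker.isFinFil (K.d (n - 1) n).hom (π.f n) (K.X _).property (K.X n).property hd w hepi' hlev
    · have := isIso_πTruncGE_f R a n h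
      exact (_root_.FilD.IsFinFil A).prop_of_iso (asIso (π.f n)) (K.X n).property
  let L := liftComplex (R.truncGE a) hfin
  let φ : K ⟶ L :=
    { f := fun n => ObjectProperty.homMk (π.f n)
      comm' := fun i j _ => ObjectProperty.hom_ext _ (π.comm i j) }
  refine ⟨L, φ, ?_, fun p => ?_⟩
  · rw [CochainComplex.isStrictlyGE_iff]
    exact fun i hi => isZero_of_raw (hz i hi)
  · refine quasiIso_of_epi_ker ((_root_.FilD.grCx p).map φ) a
      (fun i hi => Functor.map_isZero (_root_.FilD.gr A p) (hz i hi)) (fun i hi => hex i hi p)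
      (fun i hi => ?_) ?_ ?_
    · have := isIso_πTruncGE_f R a i hi
      exact inferInstanceAs (IsIso ((_root_.FilD.gr A p).map (π.f i)))
    · change Epi ((_root_.FilD.gr A p).map (π.f a))
      have := hepi' (op p)
      have : Epi (Raw.π (R.X a) p ≫ (_root_.FilD.gr A p).map (π.f a)) := by
        rw [π_map]; exact epi_comp _ _
      exact epi_of_epi (Raw.π (R.X a) p) _
    · intro T x hx
      exact Coker.gr_exact (K.d (a - 1) a).hom (π.f a) w p (hepi' _) (hlev (op p)) x hx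

theorem exists_truncLE (b : ℤ)
    (hK : ∀ (p n : ℤ), b < n → IsZero (((_root_.FilD.grCx p).obj K).homology n)) :
    ∃ (M : CochainComplex (_root_.FilD.FilF A) ℤ) (φ : M ⟶ K),
      M.IsStrictlyLE b ∧ _root_.FilD.IsFilteredQuasiIso φ := by
  have hex : ∀ (n : ℤ), b < n → ∀ p : ℤ, ((_root_.FilD.grCx p).obj K).ExactAt n := fun n hn p => by
    rw [HomologicalComplex.exactAt_iff_isZero_homology]; exact hK p n hn
  have hd : Strict (K.d b (b + 1)).hom :=
    (strict_d K b (b + 1) (b + 1 + 1) rfl rfl (hex _ (by omega))).1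
  let R := raw K
  let ι := R.ιTruncLE b
  have hz : ∀ n, b < n → IsZero ((R.truncLE b).X n) := fun n hn =>
    CochainComplex.isZero_of_isStrictlyLE _ b n hn
  have hmono : ∀ n, Mono (ι.f n) := fun n =>
    inferInstanceAs (Mono ((HomologicalComplex.ιTruncLE R (ComplexShape.embeddingUpIntLE b)).f n))
  have w : ι.f b ≫ R.d b (b + 1) = 0 := by
    rw [ι.comm, (hz (b + 1) (by omega)).eq_of_src (ι.f (b + 1)) 0, comp_zero]
  have hsc : (ShortComplex.mk (ι.f b) (R.d b (b + 1)) w).Exact :=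
    (ShortComplex.mk (ι.f b) (R.d b (b + 1)) w).exact_iff_exact_up_to_refinements.2
      (fun T x hx => ιTruncLE_lift R b x hx)
  have hmono' : ∀ p, Mono ((ι.f b).app p) := fun p => by have := hmono b; infer_instance
  have hfin : ∀ n, _root_.FilD.IsFinFil A ((R.truncLE b).X n) := by
    intro n
    rcases lt_trichotomy n b with h | h | h
    · have := isIso_ιTruncLE_f R b n h
      exact (_root_.FilD.IsFinFil A).prop_of_iso (asIso (ι.f n)).symm (K.X n).property
    · subst h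
      have : Mono (ShortComplex.mk (ι.f n) (R.d n (n + 1)) w).f := hmono n
      exact (_root_.FilD.IsFinFil A).prop_of_iso
        ((kernelIsKernel (K.d n (n + 1)).hom).conePointUniqueUpToIso hsc.fIsKernel)
        (Obj.isFinFil_kernel _ (K.X n).property (K.X (n + 1)).property)
    · exact (_root_.FilD.IsFinFil A).prop_of_isZero (hz n h)
  let M := liftComplex (R.truncLE b) hfin
  let φ : M ⟶ K :=
    { f := fun n => ObjectProperty.homMk (ι.f n)
      comm' := fun i j _ => ObjectProperty.hom_ext _ (ι.comm i j) }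
  refine ⟨M, φ, ?_, fun p => ?_⟩
  · rw [CochainComplex.isStrictlyLE_iff]
    exact fun i hi => isZero_of_raw (hz i hi)
  · have hlev : ∀ q : ℤ, ∀ ⦃T : A⦄ (x : T ⟶ (R.X b).obj (op q)), x ≫ (R.d b (b + 1)).app (op q) = 0 →
        ∃ (T' : A) (e : T' ⟶ T) (_ : Epi e) (z : T' ⟶ ((R.truncLE b).X b).obj (op q)),
          e ≫ x = z ≫ (ι.f b).app (op q) :=
      fun q T x hx => exact_eval' b (b + 1) (ι.f b) w (fun T x hx => ιTruncLE_lift R b x hx) (op q) x hx
    have hι : Strict (ι.f b) := strict_left_of_level (ι.f b) (R.d b (b + 1)) w (mono_st (K.X (b + 1))) hlev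
    refine quasiIso_of_mono_im ((_root_.FilD.grCx p).map φ) b
      (fun i hi => Functor.map_isZero (_root_.FilD.gr A p) (hz i hi)) (fun i hi => hex i hi p)
      (fun i hi => ?_) ?_ ?_
    · have := isIso_ιTruncLE_f R b i hi
      exact inferInstanceAs (IsIso ((_root_.FilD.gr A p).map (ι.f i)))
    · exact mono_gr_of_strict (ι.f b) hι (fun q => hmono' (op q)) p
    · intro T xb hxb
      exact gr_exact_kernel (ι.f b) (R.d b (b + 1)) hd w p (hlev p) xb hxb

end Groth.Agent.Lib.Fil.Trunc
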