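/-
Enough filtered injectives.
-/
import Groth.Agent.Lib.Fil.Obj
import Mathlib.CategoryTheory.Limits.Shapes.BinaryBiproducts
import Mathlib.CategoryTheory.Preadditive.Injective.Basic
import Mathlib.Data.Fintype.Sigma

set_option autoImplicit false
set_option linter.unusedSectionVars false

open CategoryTheory CategoryTheory.Limits Opposite Groth.Agent.Lib.Fil.Raw Groth.Agent.Lib.Fil.Obj

namespace Groth.Agent.Lib.Fil.Embed

universe v u

variable {A : Type u} [Category.{v} A] [Abelian A]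

section

variable (a : ℤ) (N : ℕ) (J : Fin N → A)

/-- The index set of the `p`-th step. -/
abbrev Idx (p : ℤ) : Type := {i : Fin N // p ≤ a + (i : ℕ)}

/-- The filtered object with graded pieces `J i` in degree `a + i`. -/
noncomputable abbrev obj (p : ℤ) : A := ∏ᶜ fun i : Idx a N p => J i.1

/-- Transition maps. -/
noncomputable def map (p q : ℤ) : obj a N J p ⟶ obj a N J q :=
  Pi.lift fun i => if h : p ≤ a + (i.1 : ℕ) then Pi.π (fun i : Idx a N p => J i.1) ⟨i.1, h⟩ else 0

lemma map_π (p q : ℤ) (i : Idx a N q) (h : p ≤ a + (i.1 : ℕ)) :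
    map a N J p q ≫ Pi.π _ i = Pi.π (fun i : Idx a N p => J i.1) ⟨i.1, h⟩ := by
  rw [map, Pi.lift_π, dif_pos h]

lemma map_π_eq_zero (p q : ℤ) (i : Idx a N q) (h : ¬ p ≤ a + (i.1 : ℕ)) :
    map a N J p q ≫ Pi.π _ i = 0 := by
  rw [map, Pi.lift_π, dif_neg h]

lemma map_self (p : ℤ) : map a N J p p = 𝟙 _ := by
  refine Pi.hom_ext _ _ fun i => ?_
  rw [map_π a N J p p i i.2, Category.id_comp]

lemma map_comp (p q r : ℤ) (hqp : q ≤ p) :
    map a N J p q ≫ map a N J q r = map a N J p r := by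
  refine Pi.hom_ext _ _ fun i => ?_
  rw [Category.assoc]
  by_cases h : q ≤ a + (i.1 : ℕ)
  · rw [map_π a N J q r i h]
    by_cases h' : p ≤ a + (i.1 : ℕ)
    · rw [map_π a N J p r i h', map_π a N J p q ⟨i.1, h⟩ h']
    · rw [map_π_eq_zero a N J p r i h', map_π_eq_zero a N J p q ⟨i.1, h⟩ h']
  · rw [map_π_eq_zero a N J q r i h, comp_zero, map_π_eq_zero a N J p r i (by omega)]

lemma map_retraction (p q : ℤ) (hqp : q ≤ p) : map a N J p q ≫ map a N J q p = 𝟙 _ :=
  (map_comp a N J p q p hqp).trans (map_self a N J p)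

/-- The functor. -/
noncomputable abbrev functor : ℤᵒᵖ ⥤ A where
  obj p := obj a N J p.unop
  map {p q} _ := map a N J p.unop q.unop
  map_id p := map_self a N J p.unop
  map_comp {p q r} f _ := (map_comp a N J p.unop q.unop r.unop (leOfHom f.unop)).symm

lemma isFinFil : _root_.FilD.IsFinFil A (functor a N J) := by
  refine ⟨fun p q f => (IsSplitMono.mk' (f := map a N J p.unop q.unop) ⟨map a N J q.unop p.unop, map_retraction a N J p.unop q.unop (leOfHom f.unop)⟩).mono,
    ⟨a + N, fun p hp => ?_⟩, ⟨a, fun p q f hp => ⟨map a N J q.unop p.unop, ?_, ?_⟩⟩⟩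
  · rw [IsZero.iff_id_eq_zero]
    refine Pi.hom_ext _ _ fun i => ?_
    exact absurd i.2 (by have := i.1.2; dsimp only [unop_op]; omega)
  · exact map_retraction a N J p.unop q.unop (leOfHom f.unop)
  · refine Pi.hom_ext _ _ fun i => ?_
    have h1 : p.unop ≤ a + (i.1 : ℕ) := by omega
    erw [Category.assoc, map_π a N J p.unop q.unop i h1, map_π a N J q.unop p.unop ⟨i.1, h1⟩ i.2, Category.id_comp]

/-- The filtered object. -/
noncomputable abbrev fil : _root_.FilD.FilF A := ⟨functor a N J, isFinFil a N J⟩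

lemma isFilteredInjective [∀ i, Injective (J i)] : _root_.FilD.IsFilteredInjective (fil a N J) := by
  intro p
  have : Injective (obj a N J p) := inferInstanceAs (Injective (∏ᶜ fun i : Idx a N p => J i.1))
  let S := ShortComplex.mk (st (functor a N J) p) (π (functor a N J) p) (st_π _ p)
  have hS : S.Exact := S.exact_of_g_is_cokernel (cokernelIsCokernel _)
  let σ := ShortComplex.Splitting.ofExactOfRetraction S hS (map a N J p (p + 1))
    (map_retraction a N J (p + 1) p (by omega)) (epi_π _ _)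
  refine ⟨fun {U V} g j hj => ⟨Injective.factorThru (g ≫ σ.s : U ⟶ obj a N J p) j ≫ π (functor a N J) p, ?_⟩⟩
  rw [Injective.comp_factorThru_assoc]
  exact (Category.assoc _ _ _).trans ((congrArg (g ≫ ·) σ.s_g).trans (Category.comp_id _))

end

/-- Every finite filtered object has a strict monomorphism into a filtered injective one. -/
theorem exists_embedding [EnoughInjectives A] (X : _root_.FilD.FilF A) :
    ∃ (I : _root_.FilD.FilF A) (u : X ⟶ I), _root_.FilD.IsFilteredInjective I ∧ Mono u ∧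
      Strict u.hom ∧ ∀ p, Mono ((_root_.FilD.gr A p).map u.hom) := by
  obtain ⟨b, hb⟩ := X.property.2.1
  obtain ⟨a, ha⟩ := X.property.2.2
  let N := (b - a).toNat
  let c (p : ℤ) : X.obj.obj (op p) ⟶ X.obj.obj (op a) :=
    have : IsIso (X.obj.map (homOfLE (min_le_right p a)).op) := ha _ le_rfl
    X.obj.map (homOfLE (min_le_left p a)).op ≫ inv (X.obj.map (homOfLE (min_le_right p a)).op)
  have hc : ∀ (p m : ℤ) (h₁ : m ≤ p) (h₂ : m ≤ a),
      c p ≫ X.obj.map (homOfLE h₂).op = X.obj.map (homOfLE h₁).op := by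
    intro p m h₁ h₂
    have hm : m ≤ min p a := le_min h₁ h₂
    have : IsIso (X.obj.map (homOfLE (min_le_right p a)).op) := ha _ le_rfl
    rw [← map_homOfLE_comp X.obj hm (min_le_right p a)]
    simp only [c, Category.assoc, IsIso.inv_hom_id_assoc]
    exact map_homOfLE_comp X.obj hm (min_le_left p a)
  have hcst : ∀ (p q : ℤ) (h : p ≤ q), X.obj.map (homOfLE h).op ≫ c p = c q := by
    intro p q h
    have : IsIso (X.obj.map (homOfLE (min_le_right p a)).op) := ha _ le_rfl
    rw [← cancel_mono (X.obj.map (homOfLE (min_le_right p a)).op), Category.assoc,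
      hc p (min p a) (min_le_left _ _) _, hc q (min p a) ((min_le_left _ _).trans h) _]
    exact map_homOfLE_comp X.obj (min_le_left _ _) h
  let J : Fin N → A := fun i => Injective.under ((_root_.FilD.gr A (a + (i : ℕ))).obj X.obj)
  have hψ : ∀ i : Fin N, ∃ ψ : X.obj.obj (op a) ⟶ J i,
      X.obj.map (homOfLE (by omega : a ≤ a + (i : ℕ))).op ≫ ψ = π X.obj (a + (i : ℕ)) ≫ Injective.ι _ := by
    intro i
    have := X.property.1 (homOfLE (by omega : a ≤ a + (i : ℕ))).op
    exact ⟨Injective.factorThru (π X.obj (a + (i : ℕ)) ≫ Injective.ι _)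
      (X.obj.map (homOfLE _).op), Injective.comp_factorThru _ _⟩
  choose ψ hψ using hψ
  let u₀ (p : ℤ) : X.obj.obj (op p) ⟶ obj a N J p := Pi.lift fun i => c p ≫ ψ i.1
  have hu₀ : ∀ p : ℤ, st X.obj p ≫ u₀ p = u₀ (p + 1) ≫ st (functor a N J) p := by
    intro p
    refine Pi.hom_ext _ _ fun i => ?_
    change (st X.obj p ≫ u₀ p) ≫ Pi.π _ i = (u₀ (p + 1) ≫ map a N J (p + 1) p) ≫ Pi.π _ i
    simp only [Category.assoc, u₀, Pi.lift_π]
    have e : st X.obj p ≫ c p = c (p + 1) := hcst p (p + 1) (Int.le_add_one le_rfl)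
    rw [reassoc_of% e]
    by_cases h : p + 1 ≤ a + (i.1 : ℕ)
    · rw [map_π a N J (p + 1) p i h, Pi.lift_π]
    · rw [map_π_eq_zero a N J (p + 1) p i h, comp_zero]
      have hp : a + (i.1 : ℕ) = p := by have := i.2; omega
      have e1 : c (p + 1) = X.obj.map (homOfLE (by omega : a + (i.1 : ℕ) ≤ p + 1)).op ≫ c (a + (i.1 : ℕ)) :=
        (hcst _ _ _).symm
      have e2 : c (a + (i.1 : ℕ)) = X.obj.map (homOfLE (by omega : a ≤ a + (i.1 : ℕ))).op := by
        have := hc (a + (i.1 : ℕ)) a (by omega) le_rfl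
        rwa [map_homOfLE_self, Category.comp_id] at this
      rw [e1, e2, Category.assoc, hψ, ← Category.assoc]
      obtain ⟨i, hi'⟩ := i
      dsimp only at hp ⊢
      subst hp
      exact (congrArg (· ≫ _) (st_π X.obj _)).trans zero_comp
  let U : X ⟶ fil a N J := ObjectProperty.homMk (natTransOfStep u₀ hu₀)
  have hgr : ∀ p, Mono ((_root_.FilD.gr A p).map U.hom) := by
    intro p
    refine Preadditive.mono_of_cancel_zero _ fun {T} xb hxb => ?_
    obtain ⟨T₁, e₁, he₁, x, hx⟩ := exists_lift_π p xb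
    rw [← cancel_epi e₁, hx, comp_zero]
    by_cases hp : b ≤ p
    · rw [(hb p hp).eq_of_tgt x 0, zero_comp]
    by_cases hpa : p < a
    · have : IsIso (st X.obj p) := ha _ (by dsimp only [unop_op]; omega)
      have h0 : π X.obj p = 0 := by rw [← cancel_epi (st X.obj p), st_π, comp_zero]
      rw [h0, comp_zero]
    obtain ⟨T₂, e₂, he₂, y, hy⟩ := exists_of_π_eq_zero p (x ≫ U.hom.app (op p)) (by
      rw [Category.assoc, ← π_map, ← reassoc_of% hx, hxb, comp_zero])
    have hN : (p - a).toNat < N := by omega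
    obtain ⟨i, hi⟩ : ∃ i : Fin N, a + (i : ℕ) = p := ⟨⟨_, hN⟩, by dsimp; omega⟩
    subst hi
    have h1 : (e₂ ≫ x) ≫ u₀ (a + (i : ℕ)) ≫ Pi.π (fun j : Idx a N (a + (i : ℕ)) => J j.1) ⟨i, le_rfl⟩ = 0 := by
      have := congrArg (· ≫ Pi.π (fun j : Idx a N (a + (i : ℕ)) => J j.1) ⟨i, le_rfl⟩) hy
      refine Eq.trans ?_ (this.trans ?_)
      · simp only [Category.assoc]; rfl
      · change (y ≫ map a N J (a + (i : ℕ) + 1) (a + (i : ℕ))) ≫ _ = 0
        rw [Category.assoc, map_π_eq_zero a N J _ _ _ (by dsimp only; omega), comp_zero]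
    have e2 : c (a + (i : ℕ)) = X.obj.map (homOfLE (by omega : a ≤ a + (i : ℕ))).op := by
      have := hc (a + (i : ℕ)) a (by omega) le_rfl
      rwa [map_homOfLE_self, Category.comp_id] at this
    simp only [u₀, Pi.lift_π, e2, hψ, ← Category.assoc, cancel_mono, zero_comp] at h1
    rw [← cancel_epi e₂, comp_zero, ← Category.assoc]
    exact zero_of_comp_mono (Injective.ι _) h1
  have hm : ∀ p, Mono (U.hom.app (op p)) := fun p =>
    mono_level_of_gr U.hom (mono_st (fil a N J)) b hb hgr p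
  refine ⟨fil a N J, U, isFilteredInjective a N J, ⟨fun {Z} g h hgh => ?_⟩,
    strict_of_mono_gr U.hom (mono_st (fil a N J)) hgr, hgr⟩
  apply ObjectProperty.hom_ext
  ext p
  have := hm p.unop
  rw [← cancel_mono (U.hom.app (op p.unop))]
  exact congrArg (fun t => t.hom.app p) hgh

end Groth.Agent.Lib.Fil.Embed
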