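/-
Maps from filtered acyclic complexes to bounded below complexes of filtered injectives.
-/
import Groth.Agent.Lib.Fil.Obj
import Groth.Agent.Lib.Fil.Biprod
import Groth.Agent.Lib.PCoh.Cone
import Groth.Agent.S1085
import Mathlib.Algebra.Homology.HomotopyCategory.Pretriangulated
import Mathlib.Algebra.Homology.Embedding.CochainComplex

set_option autoImplicit false

open CategoryTheory CategoryTheory.Limits Opposite Groth.Agent.Lib.Fil.Raw Groth.Agent.Lib.Fil.Obj
open CategoryTheory.Pretriangulated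

namespace Groth.Agent.Lib.Fil.Htpy

universe v u

variable {A : Type u} [Category.{v} A] [Abelian A]

lemma sc_exact {K : CochainComplex (_root_.FilD.FilF A) ℤ} {p : ℤ} (i j k : ℤ) (h : i + 1 = j)
    (h' : j + 1 = k) (hK : ((_root_.FilD.grCx p).obj K).ExactAt j) :
    ((K.sc' i j k).map (_root_.FilD.grF A p)).Exact :=
  (HomologicalComplex.exactAt_iff' ((_root_.FilD.grCx p).obj K) i j k
    (ComplexShape.prev_eq' _ h) (ComplexShape.next_eq' _ h')).1 hK

/-- What exactness of graded pieces at `j` gives. -/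
lemma level_of_grExact {K : CochainComplex (_root_.FilD.FilF A) ℤ} (i j k : ℤ) (h : i + 1 = j)
    (h' : j + 1 = k) (hK : ∀ p, ((_root_.FilD.grCx p).obj K).ExactAt j) :
    (∀ (p : ℤ) ⦃T : A⦄ (x : T ⟶ (K.X j).obj.obj (op p)), x ≫ (K.d j k).hom.app (op p) = 0 →
      ∃ (T' : A) (e : T' ⟶ T) (_ : Epi e) (y : T' ⟶ (K.X i).obj.obj (op p)),
        e ≫ x = y ≫ (K.d i j).hom.app (op p)) ∧
    Strict (K.d i j).hom ∧ Strict (K.d j k).hom := by
  obtain ⟨hex, hf, hg⟩ := Groth.Agent.S1085.result (K.sc' i j k) (fun p => sc_exact i j k h h' (hK p))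
  exact ⟨fun p T x hx => (hex p).exact_up_to_refinements x hx, (isStrict_iff _).1 hf, (isStrict_iff _).1 hg⟩

lemma exists_homotopy_step (K I : CochainComplex (_root_.FilD.FilF A) ℤ)
    (hK : _root_.FilD.IsFilteredAcyclic K) (hI : ∀ n, _root_.FilD.IsFilteredInjective (I.X n))
    (φ : K ⟶ I) (l m n : ℤ) (h₁ : l + 1 = m) (h₂ : m + 1 = n) (r : ℤ)
    (hl : K.X l ⟶ I.X r) (hm : K.X m ⟶ I.X l) (hc : φ.f l = K.d l m ≫ hm + hl ≫ I.d r l) :
    ∃ hn : K.X n ⟶ I.X m, φ.f m = K.d m n ≫ hn + hm ≫ I.d l m := by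
  obtain ⟨hex, -, hd⟩ := level_of_grExact l m n h₁ h₂ (fun p => hK p m)
  have h0 : K.d l m ≫ (φ.f m - hm ≫ I.d l m) = 0 := by
    have e : φ.f l ≫ I.d l m = (K.d l m ≫ hm + hl ≫ I.d r l) ≫ I.d l m := by rw [hc]
    simp only [Preadditive.add_comp, Category.assoc, HomologicalComplex.d_comp_d, comp_zero,
      add_zero] at e
    rw [Preadditive.comp_sub, ← φ.comm, e, sub_self]
  obtain ⟨g, hg⟩ := exists_extension hd (hI m) (φ.f m - hm ≫ I.d l m) (fun p T x hx => by
    obtain ⟨T', e, he, y, hy⟩ := hex p x hx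
    have h1 : (K.d l m).hom.app (op p) ≫ (φ.f m - hm ≫ I.d l m).hom.app (op p) = 0 := by
      exact congrArg (fun t => t.hom.app (op p)) h0
    rw [← cancel_epi e, comp_zero, reassoc_of% hy, h1, comp_zero])
  exact ⟨g, by rw [hg, sub_add_cancel]⟩

theorem nullHomotopic (K I : CochainComplex (_root_.FilD.FilF A) ℤ)
    (hK : _root_.FilD.IsFilteredAcyclic K) (a : ℤ) [I.IsStrictlyGE a]
    (hI : ∀ n, _root_.FilD.IsFilteredInjective (I.X n)) (φ : K ⟶ I) :
    Nonempty (Homotopy φ 0) := by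
  let Good (k : ℕ) (G : ∀ n m : ℤ, K.X n ⟶ I.X m) : Prop :=
    ∀ n : ℤ, n < a + k → φ.f n = K.d n (n + 1) ≫ G (n + 1) n + G n (n - 1) ≫ I.d (n - 1) n
  have h0 : Good 0 (fun _ _ => 0) := fun n hn =>
    (I.isZero_of_isStrictlyGE a n (by simpa using hn)).eq_of_tgt _ _
  have hstep : ∀ (k : ℕ) (G : ∀ n m : ℤ, K.X n ⟶ I.X m), Good k G → ∃ G', Good (k + 1) G' ∧
      ∀ n m, n ≤ a + k → G' n m = G n m := by
    intro k G hG
    have hc := hG (a + k - 1) (by omega)
    rw [show a + (k : ℤ) - 1 + 1 = a + k by omega] at hc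
    obtain ⟨g, hg⟩ := exists_homotopy_step K I hK hI φ (a + k - 1) (a + k) (a + k + 1) (by omega) rfl
      (a + k - 1 - 1) (G _ _) (G (a + k) (a + k - 1)) hc
    refine ⟨fun n m => if h : n = a + k + 1 ∧ m = a + k then
      eqToHom (by rw [h.1]) ≫ g ≫ eqToHom (by rw [h.2]) else G n m, fun n hn => ?_, fun n m hn => ?_⟩
    · dsimp only
      rw [dif_neg (show ¬ (n = a + k + 1 ∧ n - 1 = a + k) by push_cast at hn; omega)]
      by_cases h : n = a + k
      · subst h
        rw [dif_pos (⟨rfl, rfl⟩ : a + (k : ℤ) + 1 = a + k + 1 ∧ a + (k : ℤ) = a + k)]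
        simpa using hg
      · rw [dif_neg (show ¬ (n + 1 = a + k + 1 ∧ n = a + k) by omega)]
        exact hG n (by push_cast at hn; omega)
    · dsimp only
      rw [dif_neg (by omega)]
  choose next hnext₁ hnext₂ using hstep
  let seq : ∀ k : ℕ, {G // Good k G} :=
    Nat.rec ⟨fun _ _ => 0, h0⟩ (fun k S => ⟨next k S.1 S.2, hnext₁ k S.1 S.2⟩)
  have hmono : ∀ (k l : ℕ), k ≤ l → ∀ n m : ℤ, n ≤ a + k → (seq l).1 n m = (seq k).1 n m := by
    intro k l hkl
    induction l, hkl using Nat.le_induction with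
    | base => intros; rfl
    | succ l hl ih =>
      intro n m hn
      exact (hnext₂ l _ (seq l).2 n m (by omega)).trans (ih n m hn)
  let H : ∀ n m : ℤ, K.X n ⟶ I.X m := fun n m =>
    if m + 1 = n then (seq (n - a).toNat).1 n m else 0
  have hH : ∀ (n : ℤ), φ.f n = K.d n (n + 1) ≫ H (n + 1) n + H n (n - 1) ≫ I.d (n - 1) n := by
    intro n
    simp only [H, show n - 1 + 1 = n by omega, if_true]
    rw [← hmono (n - a).toNat (n + 1 - a).toNat (by omega) n (n - 1) (by omega)]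
    exact (seq (n + 1 - a).toNat).2 n (by omega)
  exact ⟨{
    hom := H
    zero := fun i j hij => if_neg (fun h => hij h)
    comm := fun n => by
      rw [dNext_eq H (show (ComplexShape.up ℤ).Rel n (n + 1) from rfl),
        prevD_eq H (show (ComplexShape.up ℤ).Rel (n - 1) n from sub_add_cancel n 1),
        HomologicalComplex.zero_f, add_zero]
      exact hH n }⟩

lemma isFilteredAcyclic_mappingCone {K L : CochainComplex (_root_.FilD.FilF A) ℤ} (α : K ⟶ L)
    (hα : _root_.FilD.IsFilteredQuasiIso α) :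
    _root_.FilD.IsFilteredAcyclic (CochainComplex.mappingCone α) := fun p n => by
  have h := (Groth.Agent.Lib.PCoh.Cone.quasiIso_iff _).1 (hα p) n
  exact h.of_iso (CochainComplex.mappingCone.mapHomologicalComplexIso α (_root_.FilD.grF A p)).symm

local notation "q" => HomotopyCategory.quotient (_root_.FilD.FilF A) (ComplexShape.up ℤ)

lemma hom_eq_zero (C I : CochainComplex (_root_.FilD.FilF A) ℤ)
    (hC : _root_.FilD.IsFilteredAcyclic C) (a : ℤ) [I.IsStrictlyGE a]
    (hI : ∀ n, _root_.FilD.IsFilteredInjective (I.X n)) (f : (q).obj C ⟶ (q).obj I) : f = 0 := by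
  obtain ⟨φ, rfl⟩ := (q).map_surjective f
  obtain ⟨h⟩ := nullHomotopic C I hC a hI φ
  rw [HomotopyCategory.eq_of_homotopy _ _ h, Functor.map_zero]

theorem bijective_precomp (I : CochainComplex (_root_.FilD.FilF A) ℤ) (a : ℤ) [I.IsStrictlyGE a]
    (hI : ∀ n, _root_.FilD.IsFilteredInjective (I.X n))
    {K L : CochainComplex (_root_.FilD.FilF A) ℤ} (α : K ⟶ L)
    (hα : _root_.FilD.IsFilteredQuasiIso α) :
    Function.Bijective (fun β : (q).obj L ⟶ (q).obj I => (q).map α ≫ β) := by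
  have hC := isFilteredAcyclic_mappingCone α hα
  have hT := HomotopyCategory.mappingCone_triangleh_distinguished α
  constructor
  · intro β β' h
    rw [← sub_eq_zero]
    obtain ⟨g, hg⟩ := Triangle.yoneda_exact₂ _ hT (β - β') (by
      change (q).map α ≫ (β - β') = 0
      rw [Preadditive.comp_sub, sub_eq_zero]
      exact h)
    rw [hg, show g = 0 from hom_eq_zero _ I hC a hI g]
    exact comp_zero
  · intro γ
    have : (I⟦(1 : ℤ)⟧).IsStrictlyGE (a - 1) := I.isStrictlyGE_shift a 1 (a - 1) (by omega)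
    have hI1 : ∀ n, _root_.FilD.IsFilteredInjective ((I⟦(1 : ℤ)⟧).X n) := fun n => hI _
    let T := CochainComplex.mappingCone.triangleh α
    have h0 : T.mor₃ ≫ γ⟦(1 : ℤ)⟧' = 0 := by
      rw [← cancel_mono (((q).commShiftIso (1 : ℤ)).app I).inv, zero_comp]
      exact hom_eq_zero _ (I⟦(1 : ℤ)⟧) hC (a - 1) hI1 _
    obtain ⟨g, hg⟩ := Triangle.yoneda_exact₃ _ (rot_of_distTriang _ hT) (γ⟦(1 : ℤ)⟧' : T.obj₁⟦(1 : ℤ)⟧ ⟶ _) h0
    let g' : (q).obj L ⟶ (q).obj I := (shiftFunctor _ (1 : ℤ)).preimage g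
    refine ⟨-g', ?_⟩
    apply (shiftFunctor _ (1 : ℤ)).map_injective
    change ((q).map α ≫ (-g'))⟦(1 : ℤ)⟧' = γ⟦(1 : ℤ)⟧'
    rw [Preadditive.comp_neg, Functor.map_neg, Functor.map_comp, Functor.map_preimage]
    exact (Preadditive.neg_comp _ _).symm.trans hg.symm

end Groth.Agent.Lib.Fil.Htpy
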