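/-
The horseshoe lemma for finite filtered objects.
-/
import Groth.Agent.Lib.Fil.Htpy

set_option autoImplicit false

open CategoryTheory CategoryTheory.Limits Opposite Groth.Agent.Lib.Fil.Raw Groth.Agent.Lib.Fil.Obj

namespace Groth.Agent.Lib.Fil.Horseshoe

universe v u

variable {A : Type u} [Category.{v} A] [Abelian A]

local notation "q" => HomotopyCategory.quotient (_root_.FilD.FilF A) (ComplexShape.up ℤ)

/-- The degree one components of a map into a shifted complex. -/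
def deg1 {J I : CochainComplex (_root_.FilD.FilF A) ℤ} (γ : J ⟶ I⟦(1 : ℤ)⟧) (n : ℤ) :
    J.X n ⟶ I.X (n + 1) := γ.f n

lemma deg1_comm {J I : CochainComplex (_root_.FilD.FilF A) ℤ} (γ : J ⟶ I⟦(1 : ℤ)⟧) (n : ℤ) :
    deg1 γ n ≫ I.d (n + 1) (n + 1 + 1) + J.d n (n + 1) ≫ deg1 γ (n + 1) = 0 := by
  have h : deg1 γ n ≫ ((1 : ℤ).negOnePow • I.d (n + 1) (n + 1 + 1)) =
      J.d n (n + 1) ≫ deg1 γ (n + 1) := γ.comm n (n + 1)
  rw [Linear.comp_units_smul, Int.negOnePow_one, Units.neg_smul, one_smul] at h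
  rw [← h, add_neg_cancel]

/-- The map from a single complex to a shifted complex. -/
noncomputable def fromSingleShift {Z : _root_.FilD.FilF A} {I : CochainComplex (_root_.FilD.FilF A) ℤ}
    (ρ : Z ⟶ I.X (0 + 1)) (hρ : ρ ≫ I.d (0 + 1) (0 + 1 + 1) = 0) :
    (CochainComplex.singleFunctor (_root_.FilD.FilF A) 0).obj Z ⟶ I⟦(1 : ℤ)⟧ :=
  HomologicalComplex.mkHomFromSingle (K := I⟦(1 : ℤ)⟧) ρ (fun k hk => by
    obtain rfl : (0 : ℤ) + 1 = k := hk
    change ρ ≫ ((1 : ℤ).negOnePow • I.d (0 + 1) (0 + 1 + 1)) = 0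
    rw [Linear.comp_units_smul, hρ, smul_zero])

/-- The degree zero part of a homotopy between maps from a single complex to a shifted complex. -/
lemma exists_of_homotopy {Z : _root_.FilD.FilF A} {I : CochainComplex (_root_.FilD.FilF A) ℤ}
    {f g : (CochainComplex.singleFunctor (_root_.FilD.FilF A) 0).obj Z ⟶ I⟦(1 : ℤ)⟧}
    (h : Homotopy f g) :
    ∃ k : ((CochainComplex.singleFunctor (_root_.FilD.FilF A) 0).obj Z).X 0 ⟶ I.X 0,
      deg1 f 0 + k ≫ I.d 0 (0 + 1) = deg1 g 0 := by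
  refine ⟨(h.hom 0 (-1) : _ ⟶ I.X (-1 + 1)), ?_⟩
  have h1 := h.comm 0
  rw [dNext_eq h.hom (show (ComplexShape.up ℤ).Rel 0 (0 + 1) from rfl),
    prevD_eq h.hom (show (ComplexShape.up ℤ).Rel (-1) 0 from rfl)] at h1
  have h4 : ((CochainComplex.singleFunctor (_root_.FilD.FilF A) 0).obj Z).d 0 (0 + 1) = 0 := rfl
  rw [h4, zero_comp, zero_add] at h1
  have key : ∀ k : ((CochainComplex.singleFunctor (_root_.FilD.FilF A) 0).obj Z).X 0 ⟶ I.X (-1 + 1),
      deg1 f 0 = k ≫ ((1 : ℤ).negOnePow • I.d (-1 + 1) (0 + 1)) + deg1 g 0 →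
        deg1 f 0 + k ≫ I.d (-1 + 1) (0 + 1) = deg1 g 0 := by
    intro k hk
    rw [Linear.comp_units_smul, Int.negOnePow_one, Units.neg_smul, one_smul] at hk
    rw [hk]
    abel
  exact key _ h1

variable (S : ShortComplex (_root_.FilD.FilF A))
  (hS : ∀ p : ℤ, (S.map ((_root_.FilD.IsFinFil A).ι ⋙ (evaluation ℤᵒᵖ A).obj (op p))).ShortExact)

include hS

lemma mono_app_f (p : ℤᵒᵖ) : Mono (S.f.hom.app p) := (hS p.unop).mono_f

lemma epi_app_g (p : ℤᵒᵖ) : Epi (S.g.hom.app p) := (hS p.unop).epi_g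

lemma epi_g : Epi S.g := ⟨fun {W} a b h => by
  apply ObjectProperty.hom_ext
  ext p
  have := epi_app_g S hS p
  rw [← cancel_epi (S.g.hom.app p)]
  exact congrArg (fun t => t.hom.app p) h⟩

lemma exists_desc {W : _root_.FilD.FilF A} (σ : S.X₂ ⟶ W) (h : S.f ≫ σ = 0) :
    ∃ ρ : S.X₃ ⟶ W, S.g ≫ ρ = σ := by
  have h' : ∀ p : ℤ, S.f.hom.app (op p) ≫ σ.hom.app (op p) = 0 := fun p =>
    congrArg (fun t => t.hom.app (op p)) h
  let c : ∀ p : ℤ, S.X₃.obj.obj (op p) ⟶ W.obj.obj (op p) := fun p =>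
    (hS p).gIsCokernel.desc (CokernelCofork.ofπ (σ.hom.app (op p)) (h' p))
  have hc : ∀ p : ℤ, S.g.hom.app (op p) ≫ c p = σ.hom.app (op p) := fun p =>
    (hS p).gIsCokernel.fac (CokernelCofork.ofπ (σ.hom.app (op p)) (h' p)) WalkingParallelPair.one
  refine ⟨ObjectProperty.homMk (natTransOfStep c fun p => ?_), ?_⟩
  · have := epi_app_g S hS (op (p + 1))
    rw [← cancel_epi (S.g.hom.app (op (p + 1))), reassoc_of% (hc (p + 1)), ← st_naturality σ.hom p,
      ← Category.assoc, ← st_naturality S.g.hom p, Category.assoc, hc]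
  · apply ObjectProperty.hom_ext
    ext p
    exact hc p.unop

lemma exists_ext {W : _root_.FilD.FilF A} (hW : _root_.FilD.IsFilteredInjective W) (a : S.X₁ ⟶ W) :
    ∃ r : S.X₂ ⟶ W, S.f ≫ r = a := by
  have hw : S.f.hom ≫ S.g.hom = 0 := congrArg (fun t => t.hom) S.zero
  have hs : Strict S.f.hom := strict_left_of_level S.f.hom S.g.hom hw (mono_st S.X₃)
    (fun p T y hy => (hS p).exact.exact_up_to_refinements y hy)
  refine exists_extension hs hW a fun p T x hx => ?_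
  have := mono_app_f S hS (op p)
  rw [show x = 0 from zero_of_comp_mono _ hx, zero_comp]

theorem exists_horseshoe
    (I : CochainComplex (_root_.FilD.FilF A) ℤ) [I.IsStrictlyGE 0]
    (hI : ∀ n, _root_.FilD.IsFilteredInjective (I.X n))
    (a : (CochainComplex.singleFunctor (_root_.FilD.FilF A) 0).obj S.X₁ ⟶ I)
    (J : CochainComplex (_root_.FilD.FilF A) ℤ)
    (c : (CochainComplex.singleFunctor (_root_.FilD.FilF A) 0).obj S.X₃ ⟶ J)
    (hc : _root_.FilD.IsFilteredQuasiIso c) :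
    ∃ (M : CochainComplex (_root_.FilD.FilF A) ℤ) (α : I ⟶ M) (β : M ⟶ J)
      (b : (CochainComplex.singleFunctor (_root_.FilD.FilF A) 0).obj S.X₂ ⟶ M),
      (∀ n, ∃ (r : M.X n ⟶ I.X n) (s : J.X n ⟶ M.X n), α.f n ≫ r = 𝟙 _ ∧ s ≫ β.f n = 𝟙 _ ∧
        α.f n ≫ β.f n = 0 ∧ r ≫ α.f n + β.f n ≫ s = 𝟙 _) ∧
      a ≫ α = (CochainComplex.singleFunctor (_root_.FilD.FilF A) 0).map S.f ≫ b ∧
      b ≫ β = (CochainComplex.singleFunctor (_root_.FilD.FilF A) 0).map S.g ≫ c := by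
  let e (X : _root_.FilD.FilF A) : ((CochainComplex.singleFunctor (_root_.FilD.FilF A) 0).obj X).X 0 ≅ X :=
    HomologicalComplex.singleObjXSelf (ComplexShape.up ℤ) (0 : ℤ) X
  let a0 : S.X₁ ⟶ I.X 0 := (e S.X₁).inv ≫ a.f 0
  let c0 : S.X₃ ⟶ J.X 0 := (e S.X₃).inv ≫ c.f 0
  have ha0 : a0 ≫ I.d 0 (0 + 1) = 0 := by
    rw [Category.assoc, a.comm]
    exact (congrArg ((e S.X₁).inv ≫ ·) zero_comp).trans comp_zero
  have hc0 : c0 ≫ J.d 0 (0 + 1) = 0 := by
    rw [Category.assoc, c.comm]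
    exact (congrArg ((e S.X₃).inv ≫ ·) zero_comp).trans comp_zero
  have := epi_g S hS
  obtain ⟨r', hr'⟩ := exists_ext S hS (hI 0) a0
  obtain ⟨ρ, hρ⟩ := exists_desc S hS (r' ≫ I.d 0 (0 + 1)) (by rw [reassoc_of% hr', ha0])
  have hρd : ρ ≫ I.d (0 + 1) (0 + 1 + 1) = 0 := by
    rw [← cancel_epi S.g, reassoc_of% hρ]
    simp
  let R := fromSingleShift (Z := S.X₃) (-ρ) (by rw [Preadditive.neg_comp, hρd, neg_zero])
  have : (I⟦(1 : ℤ)⟧).IsStrictlyGE (-1) := I.isStrictlyGE_shift 0 1 (-1) (by omega)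
  obtain ⟨ψ, hψ⟩ := (Htpy.bijective_precomp (I⟦(1 : ℤ)⟧) (-1) (fun n => hI _) c hc).2 ((q).map R)
  obtain ⟨γ, rfl⟩ := (q).map_surjective ψ
  dsimp only at hψ
  rw [← Functor.map_comp] at hψ
  obtain ⟨k, hk⟩ := exists_of_homotopy (HomotopyCategory.homotopyOfEq _ _ hψ)
  let η : S.X₃ ⟶ I.X 0 := (e S.X₃).inv ≫ k
  have hη : c0 ≫ deg1 γ 0 + ρ + η ≫ I.d 0 (0 + 1) = 0 := by
    have h1 : deg1 (c ≫ γ) 0 = c.f 0 ≫ deg1 γ 0 := rfl
    have h3 : deg1 R 0 = (e S.X₃).hom ≫ (-ρ) :=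
      HomologicalComplex.mkHomFromSingle_f _ _
    rw [h1, h3] at hk
    have h2 := congrArg ((e S.X₃).inv ≫ ·) hk
    simp only [Preadditive.comp_add, Iso.inv_hom_id_assoc] at h2
    simp only [η, c0, Category.assoc]
    rw [add_right_comm, h2, neg_add_cancel]
  let r : S.X₂ ⟶ I.X 0 := r' + S.g ≫ η
  have hfr : S.f ≫ r = a0 := by
    simp [r, hr']
  have hrd : r ≫ I.d 0 (0 + 1) + (S.g ≫ c0) ≫ deg1 γ 0 = 0 := by
    have h1 := congrArg (S.g ≫ ·) hη
    simp only [Preadditive.comp_add, comp_zero, hρ] at h1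
    rw [← h1]
    simp only [r, Preadditive.add_comp, Category.assoc]
    abel
  let d (n : ℤ) : I.X n ⊞ J.X n ⟶ I.X (n + 1) ⊞ J.X (n + 1) :=
    biprod.desc (I.d n (n + 1) ≫ biprod.inl)
      (deg1 γ n ≫ biprod.inl + J.d n (n + 1) ≫ biprod.inr)
  have hγ := deg1_comm γ
  have hd : ∀ n, d n ≫ d (n + 1) = 0 := by
    intro n
    apply biprod.hom_ext'
    · simp [d]
    · simp only [d, biprod.inr_desc_assoc, Preadditive.add_comp, Category.assoc, biprod.inl_desc,
        biprod.inr_desc, Preadditive.comp_add, HomologicalComplex.d_comp_d_assoc, zero_comp,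
        add_zero, comp_zero]
      rw [← Category.assoc, ← Category.assoc (J.d n (n + 1)), ← Preadditive.add_comp, hγ, zero_comp]
  let M := CochainComplex.of (fun n => I.X n ⊞ J.X n) d hd
  let α : I ⟶ M :=
    { f := fun n => biprod.inl
      comm' := fun i j hij => by
        change i + 1 = j at hij
        subst hij
        dsimp only [M, CochainComplex.of]
        rw [CochainComplex.of_d]
        simp [d] }
  let β : M ⟶ J :=
    { f := fun n => biprod.snd
      comm' := fun i j hij => by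
        change i + 1 = j at hij
        subst hij
        dsimp only [M, CochainComplex.of]
        rw [CochainComplex.of_d]
        apply biprod.hom_ext' <;> simp [d] }
  let b : (CochainComplex.singleFunctor (_root_.FilD.FilF A) 0).obj S.X₂ ⟶ M :=
    HomologicalComplex.mkHomFromSingle (K := M) (biprod.lift r (S.g ≫ c0)) (fun k hk => by
      change (0 : ℤ) + 1 = k at hk
      subst hk
      dsimp only [M, CochainComplex.of]
      rw [CochainComplex.of_d]
      simp only [d, biprod.lift_desc, Preadditive.comp_add, Category.assoc, reassoc_of% hc0, zero_comp,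
        comp_zero, add_zero]
      simp only [← Category.assoc]
      rw [← Preadditive.add_comp, hrd, zero_comp])
  have hb : b.f 0 = (e S.X₂).hom ≫ biprod.lift r (S.g ≫ c0) := HomologicalComplex.mkHomFromSingle_f _ _
  have hmap : ∀ {X Y : _root_.FilD.FilF A} (f : X ⟶ Y),
      ((CochainComplex.singleFunctor (_root_.FilD.FilF A) 0).map f).f 0 = (e X).hom ≫ f ≫ (e Y).inv :=
    fun f => HomologicalComplex.single_map_f_self (ComplexShape.up ℤ) (0 : ℤ) f
  refine ⟨M, α, β, b, fun n => ⟨biprod.fst, biprod.inr, biprod.inl_fst, biprod.inr_snd,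
    biprod.inl_snd, biprod.total⟩, ?_, ?_⟩
  · apply HomologicalComplex.from_single_hom_ext
    change a.f 0 ≫ biprod.inl = ((CochainComplex.singleFunctor (_root_.FilD.FilF A) 0).map S.f).f 0 ≫ b.f 0
    rw [hmap, hb]
    simp only [Category.assoc, Iso.inv_hom_id_assoc]
    rw [← Iso.inv_comp_eq]
    apply biprod.hom_ext
    · simpa [a0] using hfr.symm
    · simp
  · apply HomologicalComplex.from_single_hom_ext
    change b.f 0 ≫ biprod.snd = ((CochainComplex.singleFunctor (_root_.FilD.FilF A) 0).map S.g).f 0 ≫ c.f 0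
    rw [hmap, hb]
    simp [c0]

end Groth.Agent.Lib.Fil.Horseshoe
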