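/-
Resolutions of bounded below filtered complexes by filtered injectives.
-/
import Groth.Agent.Lib.Fil.Coker
import Groth.Agent.Lib.Fil.Embed
import Groth.Agent.Lib.Fil.Biprod
import Groth.Agent.Lib.PCoh.Cone
import Mathlib.Algebra.Homology.Embedding.CochainComplex

set_option autoImplicit false

open CategoryTheory CategoryTheory.Limits Opposite ZeroObject Groth.Agent.Lib.Fil.Raw Groth.Agent.Lib.Fil.Obj

namespace Groth.Agent.Lib.Fil.Resolve

universe v u

variable {A : Type u} [Category.{v} A] [Abelian A]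

/-- `gr` on finite filtered objects. -/
noncomputable abbrev g' (A : Type u) [Category.{v} A] [Abelian A] (p : ℤ) : _root_.FilD.FilF A ⥤ A :=
  _root_.FilD.grF A p

lemma isFilteredInjective_of_isZero {X : _root_.FilD.FilF A} (h : IsZero X) :
    _root_.FilD.IsFilteredInjective X := fun p =>
  ⟨fun _ _ _ => ⟨0, (Functor.map_isZero (_root_.FilD.grF A p) h).eq_of_tgt _ _⟩⟩

lemma lift_comp {P X Y Z : _root_.FilD.FilF A} (x : P ⟶ X) (y : P ⟶ Y) (g : X ⊞ Y ⟶ Z) :
    biprod.lift x y ≫ g = x ≫ biprod.inl ≫ g + y ≫ biprod.inr ≫ g := by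
  rw [show g = biprod.desc (biprod.inl ≫ g) (biprod.inr ≫ g) by apply biprod.hom_ext' <;> simp,
    biprod.lift_desc]
  simp

lemma split_eq (G : _root_.FilD.FilF A ⥤ A) [G.Additive] {P X Y : _root_.FilD.FilF A} {T : A}
    (x : T ⟶ G.obj X) (f : T ⟶ G.obj Y) (y : T ⟶ G.obj P) (u : P ⟶ X) (v : P ⟶ Y)
    (h : x ≫ G.map biprod.inl + f ≫ G.map biprod.inr = y ≫ G.map (biprod.lift u v)) :
    x = y ≫ G.map u ∧ f = y ≫ G.map v := by
  constructor
  · have h1 := congrArg (· ≫ G.map biprod.fst) h
    simpa [← G.map_comp] using h1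
  · have h1 := congrArg (· ≫ G.map biprod.snd) h
    simpa [← G.map_comp] using h1

variable (K : CochainComplex (_root_.FilD.FilF A) ℤ)

/-- A state of the recursion. -/
structure State (n : ℤ) where
  W : _root_.FilD.FilF A
  J : _root_.FilD.FilF A
  inj : _root_.FilD.IsFilteredInjective J
  D : W ⟶ K.X n ⊞ J
  strict : Strict D.hom
  zero : ∀ j, D ≫ biprod.fst ≫ K.d n j = 0

/-- The next differential. -/
noncomputable abbrev dd {m n : ℤ} {J J' : _root_.FilD.FilF A} (g : K.X m ⊞ J ⟶ J') :
    K.X m ⊞ J ⟶ K.X n ⊞ J' :=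
  biprod.lift (-(biprod.fst ≫ K.d m n)) g

/-- The graded image of `S.D` contains the kernel of `g`. -/
def Exact {m : ℤ} (S : State K m) {J' : _root_.FilD.FilF A} (g : K.X m ⊞ S.J ⟶ J') : Prop :=
  ∀ (p : ℤ) ⦃T : A⦄ (x : T ⟶ (g' A p).obj (K.X m ⊞ S.J)), x ≫ (g' A p).map g = 0 →
    ∃ (T' : A) (e : T' ⟶ T) (_ : Epi e) (y : T' ⟶ (g' A p).obj S.W),
      e ≫ x = y ≫ (g' A p).map S.D

/-- Two consecutive states. -/
def Link (m n : ℤ) (S : State K m) (T : State K n) : Prop :=
  ∃ g : K.X m ⊞ S.J ⟶ T.J, S.D ≫ g = 0 ∧ Exact K S g ∧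
    ∃ e : T.W ≅ K.X m ⊞ S.J, T.D = e.hom ≫ dd K g

variable [EnoughInjectives A]

lemma exists_next {m : ℤ} (S : State K m) :
    ∃ (J' : _root_.FilD.FilF A) (g : K.X m ⊞ S.J ⟶ J'),
      _root_.FilD.IsFilteredInjective J' ∧ S.D ≫ g = 0 ∧ Exact K S g := by
  let φ := S.D.hom
  have hex := Coker.exact_up_to_refinements_cokernel φ
  have hepi : ∀ p, Epi ((cokernel.π φ).app p) := fun p => inferInstance
  let Q : _root_.FilD.FilF A := ⟨cokernel φ, Coker.isFinFil φ (cokernel.π φ) S.W.property
    (K.X m ⊞ S.J).property S.strict (cokernel.condition φ) hepi hex⟩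
  obtain ⟨J', u, hJ', -, -, hu⟩ := Embed.exists_embedding Q
  refine ⟨J', ObjectProperty.homMk (cokernel.π φ ≫ u.hom), hJ', ?_, fun p T x hx => ?_⟩
  · apply ObjectProperty.hom_ext
    exact cokernel.condition_assoc φ u.hom |>.trans zero_comp
  · refine Coker.gr_exact φ (cokernel.π φ) (cokernel.condition φ) p (hepi _) (hex (op p)) x ?_
    have := hu p
    rw [← cancel_mono ((_root_.FilD.gr A p).map u.hom), zero_comp, Category.assoc, ← Functor.map_comp]
    exact hx

/-- The next state. -/
noncomputable def next (m n : ℤ) (S : State K m) : State K n where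
  W := K.X m ⊞ S.J
  J := (exists_next K S).choose
  inj := (exists_next K S).choose_spec.choose_spec.1
  D := dd K (exists_next K S).choose_spec.choose
  strict := by
    obtain ⟨-, hg, hker⟩ := (exists_next K S).choose_spec.choose_spec
    set g := (exists_next K S).choose_spec.choose
    have w : S.D ≫ dd K (n := n) g = 0 := by
      apply biprod.hom_ext
      · simp [dd, S.zero]
      · simp [dd, hg]
    refine strict_right_of_gr S.D.hom (dd K (n := n) g).hom (congrArg (fun t => t.hom) w)
      (fun p T x hx => hker p x ?_) (mono_st _)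
    have hx' : x ≫ (g' A p).map (dd K (n := n) g) = 0 := hx
    have h2 := congrArg (· ≫ (g' A p).map biprod.snd) hx'
    simp only [zero_comp, Category.assoc, ← Functor.map_comp, dd, biprod.lift_snd] at h2
    exact h2
  zero j := by simp [dd]

/-- The trivial state. -/
noncomputable def zeroState (n : ℤ) : State K n where
  W := 0
  J := 0
  inj := isFilteredInjective_of_isZero (isZero_zero _)
  D := 0
  strict := strict_of_step _ fun p T x y h => ⟨T, 𝟙 T, inferInstance, 0, by
    have := mono_st (K.X n ⊞ (0 : _root_.FilD.FilF A)) p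
    rw [← cancel_mono (st (K.X n ⊞ (0 : _root_.FilD.FilF A)).obj p)]
    have h' : x ≫ (0 : (0 : _root_.FilD.FilF A).obj.obj (op p) ⟶ _) = y ≫ st _ p := h
    simp [← h']⟩
  zero j := zero_comp

/-- The iterated state. -/
noncomputable def iter : ℕ → ∀ n : ℤ, State K n
  | 0, n => zeroState K n
  | k + 1, n => next K (n - 1) n (iter k (n - 1))

/-- The states of the resolution. -/
noncomputable def state (a n : ℤ) : State K n := iter K (n - a).toNat n

lemma state_of_le (a n : ℤ) (h : n ≤ a) : state K a n = zeroState K n := by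
  rw [state, show (n - a).toNat = 0 by omega]; rfl

lemma state_succ (a n : ℤ) (h : a < n) : state K a n = next K (n - 1) n (state K a (n - 1)) := by
  rw [state, state, show (n - a).toNat = (n - 1 - a).toNat + 1 by omega]; rfl

lemma link (a : ℤ) [K.IsStrictlyGE a] (i : ℤ) : Link K i (i + 1) (state K a i) (state K a (i + 1)) := by
  obtain ⟨n, rfl⟩ : ∃ n, i = n - 1 := ⟨i + 1, by omega⟩
  rw [show n - 1 + 1 = n by omega]
  by_cases h : a < n
  · rw [state_succ K a n h]
    obtain ⟨-, hg, hker⟩ :=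
      (exists_next K (state K a (n - 1))).choose_spec.choose_spec
    exact ⟨_, hg, hker, Iso.refl _, (Category.id_comp _).symm⟩
  · rw [state_of_le K a n (by omega), state_of_le K a (n - 1) (by omega)]
    have hz : IsZero (K.X (n - 1) ⊞ (zeroState K (n - 1)).J) :=
      (biprod_isZero_iff _ _).2 ⟨K.isZero_of_isStrictlyGE a _ (by omega), isZero_zero _⟩
    refine ⟨0, comp_zero, fun p T x _ => ⟨T, 𝟙 T, inferInstance, 0,
      (Functor.map_isZero (_root_.FilD.grF A p) hz).eq_of_tgt _ _⟩,
      IsZero.iso (isZero_zero _) hz, (isZero_zero (_root_.FilD.FilF A)).eq_of_src _ _⟩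

theorem exists_resolution (a : ℤ) [K.IsStrictlyGE a] :
    ∃ (I : CochainComplex (_root_.FilD.FilF A) ℤ) (φ : K ⟶ I), I.IsStrictlyGE a ∧
      (∀ n, _root_.FilD.IsFilteredInjective (I.X n)) ∧ _root_.FilD.IsFilteredQuasiIso φ := by
  let S := state K a
  choose g hDg hker e he using fun i => link K a i
  have hz : ∀ i, dd K (g i) ≫ g (i + 1) = 0 := fun i => by
    rw [← cancel_epi (e i).hom, comp_zero, ← Category.assoc, ← he i]
    exact hDg (i + 1)
  have hz' : ∀ i, (-(biprod.fst ≫ K.d i (i + 1))) ≫ biprod.inl ≫ g (i + 1) +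
      g i ≫ biprod.inr ≫ g (i + 1) = 0 := fun i => (lift_comp _ _ _).symm.trans (hz i)
  let d (i : ℤ) : (S (i + 1)).J ⟶ (S (i + 1 + 1)).J := biprod.inr ≫ g (i + 1)
  have hd : ∀ i, d i ≫ d (i + 1) = 0 := fun i => by
    have h1 := congrArg (biprod.inr ≫ ·) (hz' (i + 1))
    simpa [d] using h1
  let I := CochainComplex.of (fun i => (S (i + 1)).J) d hd
  let φ : K ⟶ I :=
    { f := fun i => biprod.inl ≫ g i
      comm' := fun i j hij => by
        change i + 1 = j at hij
        subst hij
        dsimp only [I, CochainComplex.of]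
        rw [CochainComplex.of_d]
        have h1 := congrArg (biprod.inl ≫ ·) (hz' i)
        simp only [Preadditive.comp_add, Preadditive.neg_comp, Preadditive.comp_neg, Category.assoc,
          biprod.inl_fst_assoc, comp_zero] at h1
        simp only [d, Category.assoc]
        exact (eq_of_sub_eq_zero ((sub_eq_neg_add _ _).trans h1)) }
  refine ⟨I, φ, ?_, fun n => (S (n + 1)).inj, fun p => ?_⟩
  · rw [CochainComplex.isStrictlyGE_iff]
    intro i hi
    change IsZero (state K a (i + 1)).J
    rw [state_of_le K a (i + 1) (by omega)]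
    exact isZero_zero _
  · rw [Groth.Agent.Lib.PCoh.Cone.quasiIso_iff]
    intro i
    obtain ⟨l, rfl⟩ : ∃ l, i = l + 1 := ⟨i - 1, by omega⟩
    rw [Groth.Agent.Lib.PCoh.Cone.exactAt_iff _ l (l + 1) (l + 1 + 1) (l + 1 + 1 + 1) rfl rfl rfl]
    let G := g' A p
    intro T x f hx hxf
    have hxf' : x ≫ G.map (biprod.inl ≫ g (l + 1 + 1)) + f ≫ G.map (d (l + 1)) = 0 := by
      have h1 : I.d (l + 1) (l + 1 + 1) = d (l + 1) :=
        CochainComplex.of_d (fun i => (S (i + 1)).J) d (l + 1)
      rw [← h1]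
      exact hxf
    simp only [d, Functor.map_comp] at hxf'
    obtain ⟨T', π', hπ', y, hy⟩ := hker (l + 1 + 1) p
      (x ≫ G.map biprod.inl + f ≫ G.map biprod.inr) (by
        simpa only [Preadditive.add_comp, Category.assoc] using! hxf')
    have hd0 : I.d l (l + 1) = d l := CochainComplex.of_d (fun i => (S (i + 1)).J) d l
    rw [he (l + 1), Functor.map_comp, ← Category.assoc y, Preadditive.comp_add, ← Category.assoc π',
      ← Category.assoc π'] at hy
    obtain ⟨hyx, hyf⟩ := split_eq G _ _ _ _ _ hy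
    generalize y ≫ G.map (e (l + 1)).hom = y' at hyx hyf
    refine ⟨T', π', hπ', y' ≫ G.map biprod.fst, y' ≫ G.map biprod.snd, ?_, ?_⟩
    · refine hyx.trans ?_
      change _ = -((y' ≫ G.map biprod.fst) ≫ G.map (K.d (l + 1) (l + 1 + 1)))
      rw [G.map_neg, G.map_comp, Preadditive.comp_neg, Category.assoc]
    · refine hyf.trans ?_
      change _ = (y' ≫ G.map biprod.fst) ≫ G.map (biprod.inl ≫ g (l + 1)) +
        (y' ≫ G.map biprod.snd) ≫ G.map (I.d l (l + 1))
      rw [hd0, Category.assoc, Category.assoc, ← G.map_comp, ← G.map_comp, ← Preadditive.comp_add,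
        ← G.map_add]
      simp only [d]
      rw [← Category.assoc, ← Category.assoc biprod.snd, ← Preadditive.add_comp, biprod.total,
        Category.id_comp]

end Groth.Agent.Lib.Fil.Resolve
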