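/-
Resolutions with strict monomorphisms as components.
-/
import Groth.Agent.Lib.Fil.Resolve
import Mathlib.Algebra.Homology.Homotopy
import Mathlib.Algebra.Homology.QuasiIso

set_option autoImplicit false

open CategoryTheory CategoryTheory.Limits Opposite Groth.Agent.Lib.Fil.Raw Groth.Agent.Lib.Fil.Obj

namespace Groth.Agent.Lib.Fil.StrictMono

universe v u

variable {A : Type u} [Category.{v} A] [Abelian A]

lemma isFilteredInjective_biprod {X Y : _root_.FilD.FilF A} (hX : _root_.FilD.IsFilteredInjective X)
    (hY : _root_.FilD.IsFilteredInjective Y) : _root_.FilD.IsFilteredInjective (X ⊞ Y) := fun p => by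
  have : Injective ((_root_.FilD.grF A p).obj X) := hX p
  have : Injective ((_root_.FilD.grF A p).obj Y) := hY p
  have : PreservesBinaryBiproducts (_root_.FilD.grF A p) := preservesBinaryBiproducts_of_preservesBiproducts _
  exact Injective.of_iso ((_root_.FilD.grF A p).mapBiprod X Y).symm inferInstance

theorem exists_strictMono [EnoughInjectives A] (K I : CochainComplex (_root_.FilD.FilF A) ℤ) (a : ℤ)
    [K.IsStrictlyGE a] [I.IsStrictlyGE a] (hI : ∀ n, _root_.FilD.IsFilteredInjective (I.X n))
    (φ : K ⟶ I) (hφ : _root_.FilD.IsFilteredQuasiIso φ) :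
    ∃ (M : CochainComplex (_root_.FilD.FilF A) ℤ) (ψ : K ⟶ M), M.IsStrictlyGE (a - 1) ∧
      (∀ n, _root_.FilD.IsFilteredInjective (M.X n)) ∧
      _root_.FilD.IsFilteredQuasiIso ψ ∧ ∀ n, Mono (ψ.f n) ∧ _root_.FilD.IsStrict (ψ.f n) := by
  have hE : ∀ n, ∃ (E : _root_.FilD.FilF A) (v : K.X n ⟶ E), _root_.FilD.IsFilteredInjective E ∧
      (∀ p, Mono ((_root_.FilD.gr A p).map v.hom)) ∧ (n < a → IsZero E) := by
    intro n
    by_cases h : n < a
    · have hz := K.isZero_of_isStrictlyGE a n h
      exact ⟨K.X n, 𝟙 _, Resolve.isFilteredInjective_of_isZero hz, fun p => by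
        change Mono ((_root_.FilD.gr A p).map (𝟙 (K.X n).obj))
        rw [CategoryTheory.Functor.map_id]; infer_instance, fun _ => hz⟩
    · obtain ⟨E, v, hE, -, -, hv⟩ := Embed.exists_embedding (K.X n)
      exact ⟨E, v, hE, hv, fun h' => absurd h' h⟩
  choose E v hEinj hv hEz using hE
  let X (n : ℤ) := I.X n ⊞ (E n ⊞ E (n + 1))
  let d (n : ℤ) : X n ⟶ X (n + 1) :=
    biprod.lift (biprod.fst ≫ I.d n (n + 1)) (biprod.lift (biprod.snd ≫ biprod.snd) 0)
  have hd : ∀ n, d n ≫ d (n + 1) = 0 := fun n => by
    apply biprod.hom_ext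
    · simp [d]
    · apply biprod.hom_ext <;> simp [d]
  let M := CochainComplex.of X d hd
  have hMd : ∀ n, M.d n (n + 1) = d n := fun n => CochainComplex.of_d X d n
  let ψ : K ⟶ M :=
    { f := fun n => biprod.lift (φ.f n) (biprod.lift (v n) (K.d n (n + 1) ≫ v (n + 1)))
      comm' := fun i j hij => by
        change i + 1 = j at hij
        subst hij
        rw [hMd]
        apply biprod.hom_ext
        · simp [d]
        · apply biprod.hom_ext <;> simp [d] }
  let pr : M ⟶ I :=
    { f := fun n => biprod.fst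
      comm' := fun i j hij => by
        change i + 1 = j at hij
        subst hij
        rw [hMd]
        simp [d] }
  let inc : I ⟶ M :=
    { f := fun n => biprod.inl
      comm' := fun i j hij => by
        change i + 1 = j at hij
        subst hij
        rw [hMd]
        apply biprod.hom_ext
        · simp [d]
        · apply biprod.hom_ext <;> simp [d] }
  let k (i j : ℤ) : M.X i ⟶ M.X j :=
    if h : j + 1 = i then
      biprod.snd ≫ biprod.fst ≫ eqToHom (by rw [h]) ≫ biprod.inr ≫ biprod.inr
    else 0
  have hk : ∀ n m, m + 1 = n → k n m ≫ M.d m n = biprod.snd ≫ biprod.fst ≫ biprod.inl ≫ biprod.inr := by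
    intro n m h
    subst h
    simp only [k, dif_pos rfl, eqToHom_refl, Category.id_comp, Category.assoc, hMd]
    congr 2
    apply biprod.hom_ext
    · simp [d]
    · apply biprod.hom_ext <;> simp [d]
  let h : Homotopy (𝟙 M) (pr ≫ inc) :=
    { hom := k
      zero := fun i j hij => dif_neg fun h => hij h
      comm := fun n => by
        rw [dNext_eq k (show (ComplexShape.up ℤ).Rel n (n + 1) from rfl),
          prevD_eq k (show (ComplexShape.up ℤ).Rel (n - 1) n from sub_add_cancel n 1),
          hk n (n - 1) (sub_add_cancel n 1), hMd]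
        simp only [k, dif_pos rfl, eqToHom_refl, Category.id_comp, HomologicalComplex.id_f,
          HomologicalComplex.comp_f, pr, inc]
        change 𝟙 (X n) = _
        apply biprod.hom_ext'
        · simp [d, X]
        · apply biprod.hom_ext' <;> simp [d, X] }
  let he : HomotopyEquiv M I :=
    { hom := pr
      inv := inc
      homotopyHomInvId := h.symm
      homotopyInvHomId := Homotopy.ofEq (by ext n; simp [pr, inc]) }
  refine ⟨M, ψ, ?_, fun n => isFilteredInjective_biprod (hI n) (isFilteredInjective_biprod (hEinj n) (hEinj _)),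
    fun p => ?_, fun n => ?_⟩
  · rw [CochainComplex.isStrictlyGE_iff]
    intro i hi
    exact (biprod_isZero_iff _ _).2 ⟨I.isZero_of_isStrictlyGE a i (by omega),
      (biprod_isZero_iff _ _).2 ⟨hEz i (by omega), hEz _ (by omega)⟩⟩
  · have h1 : (_root_.FilD.grCx p).map ψ ≫ (_root_.FilD.grCx p).map pr = (_root_.FilD.grCx p).map φ := by
      rw [← Functor.map_comp]
      congr 1
      ext n
      simp [ψ, pr]
    have : QuasiIso ((_root_.FilD.grCx p).map pr) :=
      HomotopyEquiv.quasiIso_hom ((_root_.FilD.grF A p).mapHomotopyEquiv he)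
    have : QuasiIso ((_root_.FilD.grCx p).map ψ ≫ (_root_.FilD.grCx p).map pr) := by
      rw [h1]; exact hφ p
    exact quasiIso_of_comp_right _ ((_root_.FilD.grCx p).map pr)
  · have hgr : ∀ p, Mono ((_root_.FilD.gr A p).map (ψ.f n).hom) := fun p => by
      have := hv n p
      have h1 : (_root_.FilD.grF A p).map (ψ.f n) ≫ (_root_.FilD.grF A p).map (biprod.snd ≫ biprod.fst) =
          (_root_.FilD.grF A p).map (v n) := by
        rw [← Functor.map_comp]
        congr 1
        simp [ψ]
      have : Mono ((_root_.FilD.grF A p).map (v n)) := hv n p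
      exact mono_of_mono_fac h1
    refine ⟨⟨fun {Z} g h hgh => ?_⟩, (isStrict_iff _).2 (strict_of_mono_gr _ (mono_st _) hgr)⟩
    obtain ⟨b, hb⟩ := exists_top (K.X n)
    apply ObjectProperty.hom_ext
    ext p
    have := mono_level_of_gr (ψ.f n).hom (mono_st _) b hb hgr p.unop
    rw [← cancel_mono ((ψ.f n).hom.app (op p.unop))]
    exact congrArg (fun t => t.hom.app p) hgh

end Groth.Agent.Lib.Fil.StrictMono
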